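import Cfsg.Agent.Lib.DihBlock.OneClass
import Cfsg.Agent.Lib.Blocks.Weak

/-!
# Brauer's order formula for groups with dihedral Sylow 2-subgroups and one class of involutions
-/

set_option autoImplicit false
set_option linter.unusedSectionVars false
set_option linter.style.haveILetI false

namespace Cfsg.Agent.Lib.DihBlock

open Cfsg Subgroup Finset
open Cfsg.Agent.Lib.V4Block Cfsg.Agent.Lib.Char.Basic Cfsg.Agent.Lib.Char.Degree

universe u

variable {G : Type u} [Group G] [Fintype G] [Fintype (IrrCharacter G)]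
variable {P : Sylow 2 G} {σ τ : G} {N : ℕ} {M : Ideal AlgInt}

/-- The size of the orbit of `w` under `C(z)`. -/
theorem card_orb_eq (z w : G) :
    (orb z w).card * Nat.card (centralizer ({z, w} : Set G)) = Nat.card (centralizer ({z} : Set G)) := by
  classical
  rw [← card_cen_eq z, ← card_orb_mul z w]
  congr 1
  symm
  apply card_filter_eq
  intro k
  rw [Subgroup.mem_centralizer_iff]
  simp only [Set.mem_insert_iff, Set.mem_singleton_iff, forall_eq_or_imp, forall_eq]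
  rfl

/-- The number of involutions commuting with `J`. -/
theorem DihCtx.card_Iz (h : DihCtx P σ τ N) {π : centralizer ({σ ^ (N / 2)} : Set G) →* G}
    (hπ : Proj P (σ ^ (N / 2)) π) :
    ((Iz (σ ^ (N / 2))).card : ℚ) = (Nat.card (centralizer ({σ ^ (N / 2)} : Set G)) : ℚ) *
      (1 / (Nat.card (centralizer ({σ ^ (N / 2), τ} : Set G)) : ℚ) +
        1 / (Nat.card (centralizer ({σ ^ (N / 2), σ * τ} : Set G)) : ℚ)) := by
  classical
  have h1 : (Iz (σ ^ (N / 2))).card = (orb (σ ^ (N / 2)) τ).card +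
      (orb (σ ^ (N / 2)) (σ * τ)).card := by
    rw [h.Iz_eq_union, Finset.card_union_of_disjoint (h.disjoint_orb hπ)]
  have h2 := card_orb_eq (σ ^ (N / 2)) τ
  have h3 := card_orb_eq (σ ^ (N / 2)) (σ * τ)
  have hc1 : (Nat.card (centralizer ({σ ^ (N / 2), τ} : Set G)) : ℚ) ≠ 0 :=
    Nat.cast_ne_zero.mpr Nat.card_pos.ne'
  have hc2 : (Nat.card (centralizer ({σ ^ (N / 2), σ * τ} : Set G)) : ℚ) ≠ 0 :=
    Nat.cast_ne_zero.mpr Nat.card_pos.ne'
  have key : ∀ x y z : ℕ, x * y = z → (y : ℚ) ≠ 0 → (x : ℚ) = (z : ℚ) * (1 / (y : ℚ)) := by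
    intro x y z e hy
    rw [← e]
    push_cast
    field_simp
  rw [h1]
  push_cast
  rw [key _ _ _ h2 hc1, key _ _ _ h3 hc2]
  ring

/-- The identification of the character with constant values. -/
theorem identify {ζ : ℂ} (h : DihCtx P σ τ N) (hζ : IsPrimitiveRoot ζ N) [Fintype (Idx M G)]
    {δ s₂ s₃ : ℤ} {r₁ r₂ r₃ : Idx M G} {p : Fin (N / 2 - 1) → Idx M G}
    (hT : DTable M σ ζ N δ s₂ s₃ r₁ r₂ r₃ p) {χ₁ : IrrCharacter G}
    (hχ₁ : χ₁ ∈ principalBlock M G) (hne : (χ₁ : G → ℂ) ≠ fun _ => 1) {δ₁ : ℤ}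
    (hδ₁ : δ₁ = 1 ∨ δ₁ = -1)
    (hval : ∀ l : ℕ, 0 < l → l < N → (χ₁ : G → ℂ) (σ ^ l) = δ₁) : χ₁ = r₁.1 ∧ δ₁ = δ := by
  have hN := h.hN
  have hm := h.half_two
  have hN0 : N ≠ 0 := by omega
  have hint : ∀ (s : ℤ), (s = 1 ∨ s = -1) → (s : ℂ) * (-1) ^ 1 = δ₁ → (s : ℂ) * (-1) ^ 2 = δ₁ →
      False := by
    intro s hs h1 h2
    have h3 : (s : ℂ) = 0 := by
      have : (s : ℂ) * (-1) ^ 1 = (s : ℂ) * (-1) ^ 2 := h1.trans h2.symm
      have h4 : (2 : ℂ) * s = 0 := by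
        simp only [pow_one, even_two, Even.neg_pow, one_pow, mul_neg, mul_one] at this
        linear_combination -this
      simpa using h4
    have h4 : s = 0 := by exact_mod_cast h3
    rcases hs with hs | hs <;> omega
  rcases hT.cover ⟨χ₁, hχ₁⟩ with e | e | e | e | ⟨j, e⟩
  · exact absurd e hne
  · have h1 : χ₁ = r₁.1 := congrArg Subtype.val e
    refine ⟨h1, ?_⟩
    have h2 := hval 1 (by norm_num) (by omega)
    rw [h1, hT.val₁ 1 (by norm_num) (by omega)] at h2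
    exact_mod_cast h2.symm
  · exfalso
    have h1 : χ₁ = r₂.1 := congrArg Subtype.val e
    have h2 := hval 1 (by norm_num) (by omega)
    have h3 := hval 2 (by norm_num) (by omega)
    rw [h1, hT.val₂ _ (by norm_num) (by omega)] at h2 h3
    exact hint s₂ hT.hs₂ h2 h3
  · exfalso
    have h1 : χ₁ = r₃.1 := congrArg Subtype.val e
    have h2 := hval 1 (by norm_num) (by omega)
    have h3 := hval 2 (by norm_num) (by omega)
    rw [h1, hT.val₃ _ (by norm_num) (by omega)] at h2 h3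
    exact hint s₃ hT.hs₃ h2 h3
  · exfalso
    have h1 : χ₁ = (p j).1 := congrArg Subtype.val e
    have h2 := hval (N / 2) (by omega) (by omega)
    rw [h1, hT.valp _ (by omega) (by omega)] at h2
    have h3 : ζ ^ (((j : ℕ) + 1) * (N / 2)) = (-1) ^ ((j : ℕ) + 1) := by
      rw [mul_comm, pow_mul]
      have := expo_half hm hN0 hζ 1
      simp only [expo, pow_one, zpow_natCast] at this
      rw [this]
    rw [h3] at h2
    have h4 : ((-1 : ℂ) ^ ((j : ℕ) + 1) + ((-1 : ℂ) ^ ((j : ℕ) + 1))⁻¹) = 2 ∨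
        ((-1 : ℂ) ^ ((j : ℕ) + 1) + ((-1 : ℂ) ^ ((j : ℕ) + 1))⁻¹) = -2 := by
      rcases neg_one_pow_eq_or ℂ ((j : ℕ) + 1) with h5 | h5 <;> rw [h5]
      · left
        norm_num
      · right
        norm_num
    have hδ := hT.hδ
    rcases h4 with h4 | h4 <;> rw [h4] at h2 <;> rcases hδ with h5 | h5 <;> rw [h5] at h2 <;>
      rcases hδ₁ with h6 | h6 <;> rw [h6] at h2 <;> norm_num at h2

/-- The function of the proof: `1 + δ χ₁ - δ χ'`. -/
theorem exists_phi {ζ : ℂ} (h : DihCtx P σ τ N) (hM : IsPModular 2 M) (hζ : IsPrimitiveRoot ζ N)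
    [Fintype (Idx M G)] {δ s₂ s₃ : ℤ} {r₁ r₂ r₃ : Idx M G} {p : Fin (N / 2 - 1) → Idx M G}
    (hT : DTable M σ ζ N δ s₂ s₃ r₁ r₂ r₃ p) (hj : 0 < N / 2 - 1)
    {π : centralizer ({σ ^ (N / 2)} : Set G) →* G} (hπ : Proj P (σ ^ (N / 2)) π) :
    Phi σ ζ N π (fun g => 1 + (δ : ℂ) * (r₁.1 : G → ℂ) g -
      (δ : ℂ) * ((p ⟨0, hj⟩).1 : G → ℂ) g) := by
  have hN := h.hN
  have hN0 : N ≠ 0 := by omega
  have hz := hζ.ne_zero hN0
  have hδδ : (δ : ℂ) * δ = 1 := by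
    rcases hT.hδ with e | e <;> rw [e] <;> norm_num
  refine ⟨?_, ?_, ?_⟩
  · intro t g
    rw [isClassFunction_of_isIrrCharacter r₁.1.2, isClassFunction_of_isIrrCharacter (p ⟨0, hj⟩).1.2]
  · intro g hg
    have := hT.odd₁ g hg ⟨0, hj⟩
    linear_combination -this
  · intro g m hm
    by_cases h1 : π g = 1
    · have hodd := hπ.ker g h1
      have h2 := hT.odd₁ (g : G) (by rw [Subgroup.orderOf_coe]; exact hodd) ⟨0, hj⟩
      have h3 : σ ^ m = 1 := by rw [← hm, h1]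
      have h4 : (N : ℤ) ∣ m := by
        rw [← h.σo]
        exact orderOf_dvd_iff_zpow_eq_one.mpr h3
      have h5 : ζ ^ m = 1 := (hζ.zpow_eq_one_iff_dvd m).mpr h4
      rw [zpow_neg, h5]
      linear_combination -h2
    · have hmem : π g ∈ zpowers σ := by
        rw [hm]
        exact zpow_mem_zpowers σ m
      have e1 := h.value_of_proj hπ hM r₁.2 g hmem h1
      have e2 := h.value_of_proj hπ hM (p ⟨0, hj⟩).2 g hmem h1
      obtain ⟨l, hl⟩ := DihCtx.exists_pow hmem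
      have hl0 : l % N ≠ 0 := by
        intro h0
        apply h1
        rw [hl, ← pow_mod_orderOf, h.σo, h0, pow_zero]
      have hllt : l % N < N := Nat.mod_lt _ (by omega)
      have hσl : π g = σ ^ (l % N) := by
        rw [hl, ← pow_mod_orderOf, h.σo]
      have h3 : σ ^ m = σ ^ (l % N) := by rw [← hm, hσl]
      have h4 : (N : ℤ) ∣ m - ((l % N : ℕ) : ℤ) := by
        have h7 : σ ^ (m - ((l % N : ℕ) : ℤ)) = 1 := by
          rw [zpow_sub, h3, zpow_natCast]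
          exact mul_inv_cancel _
        have h8 := orderOf_dvd_iff_zpow_eq_one.mpr h7
        rwa [h.σo] at h8
      have h5 : ζ ^ m = ζ ^ (l % N) := by
        have h6 : ζ ^ (m - ((l % N : ℕ) : ℤ)) = 1 := (hζ.zpow_eq_one_iff_dvd _).mpr h4
        rw [zpow_sub₀ hz, zpow_natCast, div_eq_one_iff_eq (pow_ne_zero _ hz)] at h6
        exact h6
      rw [e1, e2, hσl, hT.val₁ _ (Nat.pos_of_ne_zero hl0) hllt,
        hT.valp _ (Nat.pos_of_ne_zero hl0) hllt, zpow_neg, h5]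
      simp only [zero_add, one_mul]
      linear_combination (1 - ζ ^ (l % N) - (ζ ^ (l % N))⁻¹) * hδδ

/-- **Brauer's order formula**. -/
theorem DihCtx.order_formula (h : DihCtx P σ τ N) (hM : IsPModular 2 M)
    (hc1 : IsConj (σ ^ (N / 2)) τ) (hc2 : IsConj (σ ^ (N / 2)) (σ * τ)) {χ₁ : IrrCharacter G}
    (hχ₁ : χ₁ ∈ principalBlock M G) (hne : (χ₁ : G → ℂ) ≠ fun _ => 1) {δ₁ : ℤ}
    (hδ₁ : δ₁ = 1 ∨ δ₁ = -1)
    (hval : ∀ l : ℕ, 0 < l → l < N → (χ₁ : G → ℂ) (σ ^ l) = δ₁) :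
    (charDegree (χ₁ : G → ℂ) : ℤ) ≠ δ₁ ∧
    (Nat.card G : ℚ) * ((charDegree (χ₁ : G → ℂ) : ℚ) - δ₁) ^ 2 =
      2 * (charDegree (χ₁ : G → ℂ) : ℚ) * ((charDegree (χ₁ : G → ℂ) : ℚ) + δ₁) *
      (Nat.card (centralizer ({σ ^ (N / 2)} : Set G)) : ℚ) ^ 3 *
      (1 / (Nat.card (centralizer ({σ ^ (N / 2), τ} : Set G)) : ℚ) +
        1 / (Nat.card (centralizer ({σ ^ (N / 2), σ * τ} : Set G)) : ℚ)) ^ 2 := by
  classical
  letI : Fintype (Idx M G) := Fintype.ofFinite _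
  have hN := h.hN
  have hm := h.half_two
  have hN0 : N ≠ 0 := by omega
  have hζ := Complex.isPrimitiveRoot_exp N hN0
  set ζ := Complex.exp (2 * Real.pi * Complex.I / N) with hζdef
  obtain ⟨δ, s₂, s₃, r₁, r₂, r₃, p, hT⟩ := h.exists_table hM hζ
  obtain ⟨rfl, rfl⟩ := identify h hζ hT hχ₁ hne hδ₁ hval
  have hj : 0 < N / 2 - 1 := by omega
  obtain ⟨π, hπ⟩ := h.exists_proj
  have hφ := exists_phi h hM hζ hT hj hπ
  have hone := h.one_class hc1 hc2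
  have hmain := h.main_sum hπ hζ hφ hone
  set χ' : IrrCharacter G := (p ⟨0, hj⟩).1 with hχ'
  set x₁ := charDegree (r₁.1 : G → ℂ) with hx₁
  set d' := charDegree (χ' : G → ℂ) with hd'
  have hsum := sum_conj_eq h.J_order hone
    (fun a => (fun g => 1 + (δ₁ : ℂ) * (r₁.1 : G → ℂ) g - (δ₁ : ℂ) * (χ' : G → ℂ) g)
      (σ ^ (N / 2) * a))
  simp only at hsum hmain
  rw [hmain, Finset.sum_sub_distrib, Finset.sum_add_distrib, ← Finset.mul_sum, ← Finset.mul_sum,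
    Cfsg.Agent.Lib.Blocks.Weak.sum_conj_mul, Cfsg.Agent.Lib.Blocks.Weak.sum_conj_mul] at hsum
  have hδδ : (δ₁ : ℂ) * δ₁ = 1 := by
    rcases hδ₁ with e | e <;> rw [e] <;> norm_num
  have hv1 : (r₁.1 : G → ℂ) (σ ^ (N / 2)) = δ₁ := hT.val₁ _ (by omega) (by omega)
  have hv2 : (χ' : G → ℂ) (σ ^ (N / 2)) = -2 * δ₁ := by
    have h1 := hT.valp (N / 2) (by omega) (by omega) ⟨0, hj⟩
    have h3 : ζ ^ ((0 + 1) * (N / 2)) = -1 := by
      have := expo_half hm hN0 hζ 1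
      simp only [expo, pow_one, zpow_natCast] at this
      rw [zero_add, one_mul, this]
    simp only at h1
    rw [h3] at h1
    rw [hχ', h1]
    norm_num
    ring
  have hx1 : (r₁.1 : G → ℂ) 1 = x₁ := (charDegree_natCast (isCharacter_of_isIrrCharacter r₁.1.2)).symm
  have hd1 : (χ' : G → ℂ) 1 = d' := (charDegree_natCast (isCharacter_of_isIrrCharacter χ'.2)).symm
  have hdeg : (d' : ℂ) = x₁ + δ₁ := by
    have h1 := hT.odd₁ 1 (by simp) ⟨0, hj⟩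
    rw [hx1] at h1
    change -1 - (δ₁ : ℂ) * x₁ + (δ₁ : ℂ) * (χ' : G → ℂ) 1 = 0 at h1
    rw [hd1] at h1
    linear_combination (δ₁ : ℂ) * h1 + ((x₁ : ℂ) - (d' : ℂ)) * hδδ
  have hdegZ : (d' : ℤ) = (x₁ : ℤ) + δ₁ := by exact_mod_cast hdeg
  have hx₁pos : 0 < x₁ := charDegree_pos r₁.1.2
  have hd'pos : 0 < d' := charDegree_pos χ'.2
  have hx₁c : (x₁ : ℂ) ≠ 0 := Nat.cast_ne_zero.mpr hx₁pos.ne'
  have hd'c : (d' : ℂ) ≠ 0 := Nat.cast_ne_zero.mpr hd'pos.ne'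
  rw [hv1, hv2, hx1, hd1] at hsum
  simp only [Finset.sum_const, Finset.card_univ, nsmul_eq_mul, mul_one] at hsum
  rw [← Nat.card_eq_fintype_card] at hsum
  set c := Nat.card (centralizer ({σ ^ (N / 2)} : Set G)) with hc
  set I := (Iz (σ ^ (N / 2))).card with hI
  -- the equation over the integers
  have e1 : (Nat.card G : ℂ) * (δ₁ : ℂ) * (δ₁ : ℂ) / (x₁ : ℂ) = (Nat.card G : ℂ) / (x₁ : ℂ) := by
    rw [mul_assoc, hδδ, mul_one]
  have e2 : (Nat.card G : ℂ) * (-2 * (δ₁ : ℂ)) * (-2 * (δ₁ : ℂ)) / (d' : ℂ) =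
      4 * (Nat.card G : ℂ) / (d' : ℂ) := by
    congr 1
    linear_combination (4 * (Nat.card G : ℂ)) * hδδ
  rw [e1, e2] at hsum
  have e3 : (δ₁ : ℂ) * ((Nat.card G : ℂ) / (x₁ : ℂ)) * ((x₁ : ℂ) * d') =
      (δ₁ : ℂ) * (Nat.card G : ℂ) * d' := by
    field_simp
  have e4 : (δ₁ : ℂ) * (4 * (Nat.card G : ℂ) / (d' : ℂ)) * ((x₁ : ℂ) * d') =
      4 * (δ₁ : ℂ) * (Nat.card G : ℂ) * x₁ := by
    field_simp
  have h5 : (Nat.card G : ℂ) * x₁ * d' + (δ₁ : ℂ) * (Nat.card G : ℂ) * d' -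
      4 * (δ₁ : ℂ) * (Nat.card G : ℂ) * x₁ = 2 * (c : ℂ) * (I : ℂ) ^ 2 * x₁ * d' := by
    linear_combination ((x₁ : ℂ) * d') * hsum - e3 + e4
  have hC : (Nat.card G : ℂ) * ((x₁ : ℂ) - δ₁) ^ 2 = 2 * (c : ℂ) * (I : ℂ) ^ 2 * x₁ * d' := by
    linear_combination h5 - (Nat.card G : ℂ) * ((x₁ : ℂ) + δ₁) * hdeg
  have hZ : (Nat.card G : ℤ) * ((x₁ : ℤ) - δ₁) ^ 2 = 2 * (c : ℤ) * (I : ℤ) ^ 2 * x₁ * d' := by
    exact_mod_cast hC
  have hcpos : 0 < c := Nat.card_pos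
  have hIpos : 0 < I := by
    apply Finset.card_pos.mpr
    refine ⟨τ, mem_Iz.mpr ⟨h.τo, h.J_comm h.τP, ?_⟩⟩
    intro e
    apply h.τ_notMem
    rw [e]
    exact h.J_mem
  refine ⟨?_, ?_⟩
  · intro e
    have h7 : (x₁ : ℤ) - δ₁ = 0 := sub_eq_zero.mpr e
    rw [h7] at hZ
    have h6 : (0 : ℤ) < 2 * (c : ℤ) * (I : ℤ) ^ 2 * x₁ * d' := by positivity
    rw [← hZ] at h6
    simp at h6
  · have hQ : (Nat.card G : ℚ) * ((x₁ : ℚ) - δ₁) ^ 2 = 2 * (c : ℚ) * (I : ℚ) ^ 2 * x₁ * d' := by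
      exact_mod_cast hZ
    have hdQ : (d' : ℚ) = (x₁ : ℚ) + δ₁ := by exact_mod_cast hdegZ
    rw [hQ, h.card_Iz hπ, hdQ]
    ring

end Cfsg.Agent.Lib.DihBlock
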