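import Cfsg.Agent.Lib.DihBlock.Frame
import Cfsg.Agent.Lib.DihBlock.Combi
import Cfsg.Agent.Lib.V4Block.Rank

/-!
# Fourier analysis on the cyclic subgroup of index two
-/

set_option autoImplicit false
set_option linter.unusedSectionVars false
set_option linter.style.haveILetI false

namespace Cfsg.Agent.Lib.DihBlock

open Cfsg Subgroup Finset
open Cfsg.Agent.Lib.V4Block Cfsg.Agent.Lib.ZStar.Section
open Cfsg.Agent.Lib.Char.Basic Cfsg.Agent.Lib.Char.Ortho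
open scoped ComplexConjugate

universe u

section Expo

variable {N : ℕ} {ζ : ℂ}

/-- `ζ^(a l)`. -/
noncomputable def expo (ζ : ℂ) (a : ℤ) (l : ℕ) : ℂ := (ζ ^ a) ^ l

@[simp] theorem expo_zero_right (a : ℤ) : expo ζ a 0 = 1 := by simp [expo]

@[simp] theorem expo_zero_left (l : ℕ) : expo ζ 0 l = 1 := by simp [expo]

theorem expo_mul (hζ : ζ ≠ 0) (a b : ℤ) (l : ℕ) : expo ζ a l * expo ζ b l = expo ζ (a + b) l := by
  simp only [expo]
  rw [← mul_pow, zpow_add₀ hζ]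

theorem expo_eq_zpow (hζ : ζ ≠ 0) (a : ℤ) (l : ℕ) : expo ζ a l = ζ ^ (a * l) := by
  rw [expo, zpow_mul, zpow_natCast]

theorem expo_natCast_swap (hζ : ζ ≠ 0) (a l : ℕ) : expo ζ a l = expo ζ l a := by
  rw [expo_eq_zpow hζ, expo_eq_zpow hζ, mul_comm]

theorem expo_conj (hζ : IsPrimitiveRoot ζ N) (hN : N ≠ 0) (a : ℤ) (l : ℕ) :
    conj (expo ζ a l) = expo ζ (-a) l := by
  have hn : ‖ζ‖ = 1 := Complex.norm_eq_one_of_pow_eq_one hζ.pow_eq_one hN
  simp only [expo]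
  rw [map_pow, map_zpow₀, ← Complex.inv_eq_conj hn, inv_zpow, zpow_neg]

theorem expo_pow_N (hζ : IsPrimitiveRoot ζ N) (a : ℤ) : expo ζ a N = 1 := by
  simp only [expo]
  rw [← zpow_natCast, ← zpow_mul, mul_comm, zpow_mul, zpow_natCast, hζ.pow_eq_one, one_zpow]

theorem expo_ne_zero (hζ : ζ ≠ 0) (a : ℤ) (l : ℕ) : expo ζ a l ≠ 0 := by
  simp only [expo]
  exact pow_ne_zero _ (zpow_ne_zero _ hζ)

theorem expo_reflect (hζ : IsPrimitiveRoot ζ N) (hN : N ≠ 0) (a : ℤ) {l : ℕ} (hl : l ≤ N) :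
    expo ζ a (N - l) = expo ζ (-a) l := by
  have hz := hζ.ne_zero hN
  have h1 : expo ζ a (N - l) * expo ζ a l = 1 := by
    simp only [expo]
    rw [← pow_add, Nat.sub_add_cancel hl]
    exact expo_pow_N hζ a
  have h2 : expo ζ (-a) l * expo ζ a l = 1 := by
    rw [expo_mul hz]
    simp
  exact mul_right_cancel₀ (expo_ne_zero hz a l) (h1.trans h2.symm)

theorem expo_add_N (hζ : IsPrimitiveRoot ζ N) (hN : N ≠ 0) (a : ℤ) (l : ℕ) :
    expo ζ (a + N) l = expo ζ a l := by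
  have hz := hζ.ne_zero hN
  simp only [expo]
  rw [zpow_add₀ hz, zpow_natCast, hζ.pow_eq_one, mul_one]

theorem expo_sum (hζ : IsPrimitiveRoot ζ N) (hN : N ≠ 0) (t : ℤ) :
    ∑ l ∈ range N, expo ζ t l = if (N : ℤ) ∣ t then (N : ℂ) else 0 := by
  split_ifs with h
  · have h1 : ζ ^ t = 1 := (hζ.zpow_eq_one_iff_dvd t).mpr h
    simp [expo, h1]
  · have h1 : ζ ^ t ≠ 1 := fun h2 => h ((hζ.zpow_eq_one_iff_dvd t).mp h2)
    simp only [expo]
    rw [geom_sum_eq h1]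
    have h2 : (ζ ^ t) ^ N = 1 := expo_pow_N hζ t
    rw [h2]
    simp

theorem sum_Ico_eq_range {f : ℕ → ℂ} (hN : N ≠ 0) (h0 : f 0 = 0) :
    ∑ l ∈ Ico 1 N, f l = ∑ l ∈ range N, f l := by
  rw [Finset.range_eq_Ico, Finset.sum_eq_sum_Ico_succ_bot (Nat.pos_of_ne_zero hN), h0, zero_add]

/-- The second moment of the exponentials. -/
theorem gram_sum (hζ : IsPrimitiveRoot ζ N) (hN : N ≠ 0) (a b : ℤ) (ha : ¬ (N : ℤ) ∣ a)
    (hb : ¬ (N : ℤ) ∣ b) :
    (N : ℂ)⁻¹ * ∑ l ∈ Ico 1 N, (expo ζ (-a) l - 1) * ((expo ζ b l - 1) + (expo ζ (-b) l - 1)) =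
      2 + (if (N : ℤ) ∣ b - a then 1 else 0) + (if (N : ℤ) ∣ a + b then 1 else 0) := by
  have hz := hζ.ne_zero hN
  have hNc : (N : ℂ) ≠ 0 := Nat.cast_ne_zero.mpr hN
  rw [sum_Ico_eq_range hN (by simp)]
  have h1 : ∀ l, (expo ζ (-a) l - 1) * ((expo ζ b l - 1) + (expo ζ (-b) l - 1)) =
      expo ζ (b - a) l + expo ζ (-(a + b)) l - 2 * expo ζ (-a) l - expo ζ b l - expo ζ (-b) l + 2 := by
    intro l
    have h2 : expo ζ (-a) l * expo ζ b l = expo ζ (b - a) l := by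
      rw [expo_mul hz]
      congr 1
      ring
    have h3 : expo ζ (-a) l * expo ζ (-b) l = expo ζ (-(a + b)) l := by
      rw [expo_mul hz]
      congr 1
      ring
    rw [← h2, ← h3]
    ring
  simp only [h1]
  rw [Finset.sum_add_distrib, Finset.sum_sub_distrib, Finset.sum_sub_distrib,
    Finset.sum_sub_distrib, Finset.sum_add_distrib, ← Finset.mul_sum, expo_sum hζ hN,
    expo_sum hζ hN, expo_sum hζ hN, expo_sum hζ hN, expo_sum hζ hN]
  have e1 : ¬ (N : ℤ) ∣ -a := fun h => ha ((dvd_neg).mp h)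
  have e2 : ¬ (N : ℤ) ∣ -b := fun h => hb ((dvd_neg).mp h)
  rw [if_neg e1, if_neg hb, if_neg e2]
  have e3 : ((N : ℤ) ∣ -(a + b)) ↔ (N : ℤ) ∣ a + b := dvd_neg
  simp only [e3, Finset.sum_const, Finset.card_range, nsmul_eq_mul]
  split_ifs <;> field_simp <;> ring

end Expo

variable {G : Type u} [Group G] [Fintype G] [Fintype (IrrCharacter G)]
variable {P : Sylow 2 G} {σ τ : G} {N : ℕ} {ζ : ℂ} {M : Ideal AlgInt}

/-- The Fourier coefficient. -/
noncomputable def coef (σ : G) (ζ : ℂ) (N : ℕ) (χ : G → ℂ) (a : ℤ) : ℂ :=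
  (N : ℂ)⁻¹ * ∑ l ∈ range N, χ (σ ^ l) * expo ζ (-a) l

/-- The Fourier coefficient minus the coefficient of the trivial character. -/
noncomputable def UU (σ : G) (ζ : ℂ) (N : ℕ) (χ : G → ℂ) (a : ℤ) : ℂ :=
  coef σ ζ N χ a - coef σ ζ N χ 0

theorem UU_eq (hN : N ≠ 0) (χ : G → ℂ) (a : ℤ) :
    UU σ ζ N χ a = (N : ℂ)⁻¹ * ∑ l ∈ Ico 1 N, χ (σ ^ l) * (expo ζ (-a) l - 1) := by
  unfold UU coef
  rw [← mul_sub, ← Finset.sum_sub_distrib, sum_Ico_eq_range hN (by simp)]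
  congr 1
  refine Finset.sum_congr rfl fun l _ => ?_
  simp only [neg_zero, expo_zero_left]
  ring

/-- The sum over the cyclic group. -/
theorem sum_zpowers (hσ : orderOf σ = N) (F : G → ℂ) [Fintype (zpowers σ)] :
    ∑ h : zpowers σ, F h = ∑ l ∈ range N, F (σ ^ l) := by
  classical
  symm
  refine Finset.sum_bij (fun l _ => (⟨σ ^ l, pow_mem (mem_zpowers σ) l⟩ : zpowers σ)) ?_ ?_ ?_ ?_
  · intro l _
    exact Finset.mem_univ _
  · intro l hl l' hl' e
    have h1 : σ ^ l = σ ^ l' := congrArg Subtype.val e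
    have hl1 : l ∈ Set.Iio (orderOf σ) := by
      rw [hσ]
      exact Finset.mem_range.mp hl
    have hl2 : l' ∈ Set.Iio (orderOf σ) := by
      rw [hσ]
      exact Finset.mem_range.mp hl'
    exact pow_injOn_Iio_orderOf hl1 hl2 h1
  · rintro ⟨x, hx⟩ -
    have h1 := (mem_zpowers_iff_mem_range_orderOf (x := σ) (y := x)).mp hx
    obtain ⟨l, hl, rfl⟩ := Finset.mem_image.mp h1
    exact ⟨l, by rw [← hσ]; exact hl, rfl⟩
  · intro l _
    rfl

/-- The Fourier coefficients of a character are natural numbers. -/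
theorem exists_nat_coef (hσ : orderOf σ = N) (hN : N ≠ 0) (hζ : IsPrimitiveRoot ζ N) {χ : G → ℂ}
    (hχ : IsCharacter G χ) (a : ℤ) : ∃ n : ℕ, coef σ ζ N χ a = n := by
  classical
  have hz := hζ.ne_zero hN
  set g : zpowers σ := ⟨σ, mem_zpowers σ⟩ with hg
  have hgen : ∀ x : zpowers σ, x ∈ zpowers g := by
    rintro ⟨_, k, rfl⟩
    refine ⟨k, ?_⟩
    apply Subtype.ext
    rfl
  let g' : ℂˣ := Units.mk0 (ζ ^ a) (zpow_ne_zero _ hz)
  have hdvd : orderOf g' ∣ orderOf g := by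
    apply orderOf_dvd_of_pow_eq_one
    have h1 : orderOf g = N := by
      rw [hg, Subgroup.orderOf_mk, hσ]
    rw [h1]
    apply Units.ext
    have := expo_pow_N hζ a
    simpa [g', expo] using this
  let lam : zpowers σ →* ℂˣ := monoidHomOfForallMemZpowers hgen hdvd
  have hlam : ∀ l : ℕ, (lam ⟨σ ^ l, pow_mem (mem_zpowers σ) l⟩ : ℂ) = expo ζ a l := by
    intro l
    have h1 : (⟨σ ^ l, pow_mem (mem_zpowers σ) l⟩ : zpowers σ) = g ^ l := rfl
    rw [h1, map_pow]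
    have h2 : lam g = g' := monoidHomOfForallMemZpowers_apply_gen hgen hdvd
    rw [h2]
    simp [g', expo]
  have hirr := Cfsg.Agent.Lib.Char.Linear.isIrrCharacter_of_hom lam
  obtain ⟨n, hn⟩ := exists_nat_classInner (isCharacter_restrict (zpowers σ) hχ)
    (isCharacter_of_isIrrCharacter hirr)
  refine ⟨n, ?_⟩
  rw [← hn, classInner_def, Nat.card_zpowers, hσ]
  unfold coef
  congr 1
  have hlam2 : ∀ x : zpowers σ, ∃ F : G → ℂ, True := fun _ => ⟨fun _ => 0, trivial⟩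
  have := Finset.sum_bij (s := range N) (t := (univ : Finset (zpowers σ)))
    (f := fun l => χ (σ ^ l) * expo ζ (-a) l)
    (g := fun h : zpowers σ => χ h * conj (lam h : ℂ))
    (fun l _ => (⟨σ ^ l, pow_mem (mem_zpowers σ) l⟩ : zpowers σ))
    (fun l _ => Finset.mem_univ _)
    (by
      intro l hl l' hl' e
      have h1 : σ ^ l = σ ^ l' := congrArg Subtype.val e
      have hl1 : l ∈ Set.Iio (orderOf σ) := by
        rw [hσ]
        exact Finset.mem_range.mp hl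
      have hl2 : l' ∈ Set.Iio (orderOf σ) := by
        rw [hσ]
        exact Finset.mem_range.mp hl'
      exact pow_injOn_Iio_orderOf hl1 hl2 h1)
    (by
      rintro ⟨x, hx⟩ -
      have h1 := (mem_zpowers_iff_mem_range_orderOf (x := σ) (y := x)).mp hx
      obtain ⟨l, hl, rfl⟩ := Finset.mem_image.mp h1
      exact ⟨l, by rw [← hσ]; exact hl, rfl⟩)
    (by
      intro l _
      change χ (σ ^ l) * expo ζ (-a) l =
        χ (σ ^ l) * conj (lam ⟨σ ^ l, pow_mem (mem_zpowers σ) l⟩ : ℂ)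
      rw [hlam, expo_conj hζ hN])
  exact this

/-- The differences of Fourier coefficients are integers. -/
theorem exists_int_UU (hσ : orderOf σ = N) (hN : N ≠ 0) (hζ : IsPrimitiveRoot ζ N) {χ : G → ℂ}
    (hχ : IsCharacter G χ) (a : ℤ) : ∃ k : ℤ, UU σ ζ N χ a = k := by
  obtain ⟨n, hn⟩ := exists_nat_coef hσ hN hζ hχ a
  obtain ⟨m, hm⟩ := exists_nat_coef hσ hN hζ hχ 0
  refine ⟨(n : ℤ) - m, ?_⟩
  unfold UU
  rw [hn, hm]
  push_cast
  ring

theorem conj_UU (hN : N ≠ 0) (hζ : IsPrimitiveRoot ζ N) (χ : G → ℂ) (a : ℤ) :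
    conj (UU σ ζ N χ a) = (N : ℂ)⁻¹ * ∑ l ∈ Ico 1 N, conj (χ (σ ^ l)) * (expo ζ a l - 1) := by
  rw [UU_eq hN, map_mul, map_inv₀, Complex.conj_natCast, map_sum]
  congr 1
  refine Finset.sum_congr rfl fun l _ => ?_
  rw [map_mul, map_sub, map_one, expo_conj hζ hN, neg_neg]

/-- The trivial character. -/
theorem UU_one (hN : N ≠ 0) (hζ : IsPrimitiveRoot ζ N) {a : ℤ} (ha : ¬ (N : ℤ) ∣ a) :
    UU σ ζ N (fun _ => 1) a = -1 := by
  have hNc : (N : ℂ) ≠ 0 := Nat.cast_ne_zero.mpr hN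
  unfold UU coef
  simp only [one_mul]
  rw [expo_sum hζ hN, expo_sum hζ hN, if_neg (fun h => ha (dvd_neg.mp h)), if_pos (by simp)]
  field_simp
  ring

namespace DihCtx

variable [Fintype (Idx M G)]

/-- Powers of `σ` in the frame identity. -/
theorem frame_pow (h : DihCtx P σ τ N) (hM : IsPModular 2 M) {l l' : ℕ} (hl : l ∈ Ico 1 N)
    (hl' : l' ∈ Ico 1 N) : secSum M (σ ^ l') (σ ^ l) =
      (N : ℂ) * ((if l' = l then 1 else 0) + (if l' = N - l then 1 else 0)) := by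
  classical
  obtain ⟨hl1, hl2⟩ := Finset.mem_Ico.mp hl
  obtain ⟨hl1', hl2'⟩ := Finset.mem_Ico.mp hl'
  have hIio : ∀ {k : ℕ}, k < N → k ∈ Set.Iio (orderOf σ) := fun hk => by
    rw [h.σo]
    exact hk
  have hne : ∀ {k : ℕ}, 1 ≤ k → k < N → σ ^ k ≠ 1 := fun h1 h2 => by
    apply pow_ne_one_of_lt_orderOf (by omega)
    rw [h.σo]
    exact h2
  rw [h.frame hM (pow_mem (mem_zpowers σ) l) (hne hl1 hl2) (pow_mem (mem_zpowers σ) l')
    (hne hl1' hl2')]
  have e1 : (σ ^ l = σ ^ l') ↔ l' = l := by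
    constructor
    · intro e
      exact (pow_injOn_Iio_orderOf (hIio hl2) (hIio hl2') e).symm
    · rintro rfl
      rfl
  have e2 : (σ ^ l = (σ ^ l')⁻¹) ↔ l' = N - l := by
    constructor
    · intro e
      have h1 : σ ^ (l + l') = 1 := by
        rw [pow_add, e]
        exact inv_mul_cancel _
      have h2 : N ∣ l + l' := by
        rw [← h.σo]
        exact orderOf_dvd_of_pow_eq_one h1
      obtain ⟨c, hc⟩ := h2
      have h3 : c = 1 := by
        have h4 : c < 2 := by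
          by_contra h5
          have : N * 2 ≤ N * c := Nat.mul_le_mul_left _ (by omega)
          omega
        have h5 : c ≠ 0 := by
          rintro rfl
          omega
        omega
      rw [h3] at hc
      omega
    · rintro rfl
      rw [eq_inv_iff_mul_eq_one, ← pow_add, Nat.add_sub_cancel' hl2.le, ← h.σo]
      exact pow_orderOf_eq_one σ
  simp only [e1, e2]

/-- The Gram identity. -/
theorem gram₀ (h : DihCtx P σ τ N) (hM : IsPModular 2 M) (hζ : IsPrimitiveRoot ζ N) (a b : ℤ) :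
    ∑ i : Idx M G, UU σ ζ N (i.1 : G → ℂ) a * conj (UU σ ζ N (i.1 : G → ℂ) b) =
      (N : ℂ)⁻¹ * ∑ l ∈ Ico 1 N, (expo ζ (-a) l - 1) * ((expo ζ b l - 1) + (expo ζ (-b) l - 1)) := by
  classical
  have hN : N ≠ 0 := by
    have := h.hN
    omega
  have hNc : (N : ℂ) ≠ 0 := Nat.cast_ne_zero.mpr hN
  have hz := hζ.ne_zero hN
  have h1 : ∀ i : Idx M G, UU σ ζ N (i.1 : G → ℂ) a * conj (UU σ ζ N (i.1 : G → ℂ) b) =
      ((N : ℂ)⁻¹ * (N : ℂ)⁻¹) * ∑ l ∈ Ico 1 N, ∑ l' ∈ Ico 1 N,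
        (expo ζ (-a) l - 1) * (expo ζ b l' - 1) *
        ((i.1 : G → ℂ) (σ ^ l) * conj ((i.1 : G → ℂ) (σ ^ l'))) := by
    intro i
    rw [conj_UU hN hζ, UU_eq hN, mul_mul_mul_comm, Finset.sum_mul_sum]
    congr 1
    refine Finset.sum_congr rfl fun l _ => Finset.sum_congr rfl fun l' _ => ?_
    ring
  simp only [h1]
  rw [← Finset.mul_sum]
  have h2 : ∑ i : Idx M G, ∑ l ∈ Ico 1 N, ∑ l' ∈ Ico 1 N,
        (expo ζ (-a) l - 1) * (expo ζ b l' - 1) *
        ((i.1 : G → ℂ) (σ ^ l) * conj ((i.1 : G → ℂ) (σ ^ l'))) =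
      ∑ l ∈ Ico 1 N, ∑ l' ∈ Ico 1 N, (expo ζ (-a) l - 1) * (expo ζ b l' - 1) *
        secSum M (σ ^ l') (σ ^ l) := by
    rw [Finset.sum_comm]
    refine Finset.sum_congr rfl fun l _ => ?_
    rw [Finset.sum_comm]
    refine Finset.sum_congr rfl fun l' _ => ?_
    rw [← Finset.mul_sum, secSum_eq_sum_block]
  rw [h2]
  have h3 : ∀ l ∈ Ico 1 N, ∑ l' ∈ Ico 1 N, (expo ζ (-a) l - 1) * (expo ζ b l' - 1) *
        secSum M (σ ^ l') (σ ^ l) = (N : ℂ) * ((expo ζ (-a) l - 1) *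
          ((expo ζ b l - 1) + (expo ζ (-b) l - 1))) := by
    intro l hl
    obtain ⟨hl1, hl2⟩ := Finset.mem_Ico.mp hl
    have hl' : N - l ∈ Ico 1 N := Finset.mem_Ico.mpr ⟨by omega, by omega⟩
    have h4 : ∀ l' ∈ Ico 1 N, (expo ζ (-a) l - 1) * (expo ζ b l' - 1) *
        secSum M (σ ^ l') (σ ^ l) = ((N : ℂ) * (expo ζ (-a) l - 1)) *
          ((if l' = l then (expo ζ b l' - 1) else 0) +
            (if l' = N - l then (expo ζ b l' - 1) else 0)) := by
      intro l' hl''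
      rw [h.frame_pow hM hl hl'']
      split_ifs <;> ring
    rw [Finset.sum_congr rfl h4, ← Finset.mul_sum, Finset.sum_add_distrib, Finset.sum_ite_eq',
      Finset.sum_ite_eq', if_pos hl, if_pos hl', expo_reflect hζ hN b hl2.le]
    ring
  rw [Finset.sum_congr rfl h3, ← Finset.mul_sum]
  field_simp

/-- The Gram identity, evaluated. -/
theorem gram₁ (h : DihCtx P σ τ N) (hM : IsPModular 2 M) (hζ : IsPrimitiveRoot ζ N) (a b : ℤ)
    (ha : ¬ (N : ℤ) ∣ a) (hb : ¬ (N : ℤ) ∣ b) :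
    ∑ i : Idx M G, UU σ ζ N (i.1 : G → ℂ) a * conj (UU σ ζ N (i.1 : G → ℂ) b) =
      2 + (if (N : ℤ) ∣ b - a then 1 else 0) + (if (N : ℤ) ∣ a + b then 1 else 0) := by
  rw [h.gram₀ hM hζ a b, gram_sum hζ (by have := h.hN; omega) a b ha hb]

/-- The relation on odd elements. -/
theorem sum_UU_odd (h : DihCtx P σ τ N) (hM : IsPModular 2 M) (hζ : IsPrimitiveRoot ζ N) (a : ℤ)
    {ρ : G} (hρ : ¬ 2 ∣ orderOf ρ) :
    ∑ i : Idx M G, conj (UU σ ζ N (i.1 : G → ℂ) a) * (i.1 : G → ℂ) ρ = 0 := by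
  classical
  have hN : N ≠ 0 := by
    have := h.hN
    omega
  have h1 : ∀ i : Idx M G, conj (UU σ ζ N (i.1 : G → ℂ) a) * (i.1 : G → ℂ) ρ =
      (N : ℂ)⁻¹ * ∑ l ∈ Ico 1 N, (expo ζ a l - 1) *
        ((i.1 : G → ℂ) ρ * conj ((i.1 : G → ℂ) (σ ^ l))) := by
    intro i
    rw [conj_UU hN hζ, mul_assoc, Finset.sum_mul]
    congr 1
    refine Finset.sum_congr rfl fun l _ => ?_
    ring
  simp only [h1]
  rw [← Finset.mul_sum, Finset.sum_comm]
  apply mul_eq_zero_of_right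
  apply Finset.sum_eq_zero
  intro l hl
  obtain ⟨hl1, hl2⟩ := Finset.mem_Ico.mp hl
  rw [← Finset.mul_sum, ← secSum_eq_sum_block]
  apply mul_eq_zero_of_right
  refine secSum_eq_zero hM (h.order_pow (pow_mem (mem_zpowers σ) l))
    (x := 1) ⟨ρ, one_mul ρ, Commute.one_left ρ, ⟨0, by simp⟩, hρ⟩ ?_
  intro hc
  have h3 := isConj_one_right.mp hc
  have h4 : σ ^ l ≠ 1 := by
    apply pow_ne_one_of_lt_orderOf (by omega)
    rw [h.σo]
    exact hl2
  exact h4 h3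

/-- Reflection of the Fourier coefficients. -/
theorem UU_neg (h : DihCtx P σ τ N) (hζ : IsPrimitiveRoot ζ N) {χ : G → ℂ}
    (hχ : IsClassFunction G χ) (a : ℤ) : UU σ ζ N χ (-a) = UU σ ζ N χ a := by
  have hN : N ≠ 0 := by
    have := h.hN
    omega
  rw [UU_eq hN, UU_eq hN]
  congr 1
  refine Finset.sum_nbij' (fun l => N - l) (fun l => N - l) ?_ ?_ ?_ ?_ ?_
  · intro l hl
    obtain ⟨h1, h2⟩ := Finset.mem_Ico.mp hl
    exact Finset.mem_Ico.mpr ⟨by omega, by omega⟩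
  · intro l hl
    obtain ⟨h1, h2⟩ := Finset.mem_Ico.mp hl
    exact Finset.mem_Ico.mpr ⟨by omega, by omega⟩
  · intro l hl
    obtain ⟨h1, h2⟩ := Finset.mem_Ico.mp hl
    omega
  · intro l hl
    obtain ⟨h1, h2⟩ := Finset.mem_Ico.mp hl
    omega
  · intro l hl
    obtain ⟨h1, h2⟩ := Finset.mem_Ico.mp hl
    have h3 : σ ^ (N - l) = (σ ^ l)⁻¹ := by
      rw [eq_inv_iff_mul_eq_one, ← pow_add, Nat.sub_add_cancel h2.le, ← h.σo]
      exact pow_orderOf_eq_one σ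
    have h4 : χ (σ ^ (N - l)) = χ (σ ^ l) := by
      rw [h3, ← hχ (σ ^ l) τ, h.conj_mem (pow_mem (mem_zpowers σ) l)]
    rw [h4, expo_reflect hζ hN _ h2.le]

/-- Periodicity of the Fourier coefficients. -/
theorem UU_add_N (hN : N ≠ 0) (hζ : IsPrimitiveRoot ζ N) (χ : G → ℂ) (a : ℤ) :
    UU σ ζ N χ (a + N) = UU σ ζ N χ a := by
  rw [UU_eq hN, UU_eq hN]
  congr 1
  refine Finset.sum_congr rfl fun l _ => ?_
  have : -(a + N) = -a + (-(N : ℤ)) := by ring
  have h2 := expo_add_N hζ hN (-(a + N)) l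
  have h3 : -(a + (N : ℤ)) + (N : ℤ) = -a := by ring
  rw [h3] at h2
  rw [h2]

/-- Reflection in natural numbers. -/
theorem UU_sub (h : DihCtx P σ τ N) (hζ : IsPrimitiveRoot ζ N) {χ : G → ℂ}
    (hχ : IsClassFunction G χ) {a : ℕ} (ha : a ≤ N) :
    UU σ ζ N χ ((N - a : ℕ) : ℤ) = UU σ ζ N χ a := by
  have hN : N ≠ 0 := by
    have := h.hN
    omega
  have h1 : ((N - a : ℕ) : ℤ) = -(a : ℤ) + N := by
    rw [Nat.cast_sub ha]
    ring
  rw [h1, UU_add_N hN hζ, h.UU_neg hζ hχ]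

end DihCtx

/-- Fourier inversion. -/
theorem value_eq (hσ : orderOf σ = N) (hN : N ≠ 0) (hζ : IsPrimitiveRoot ζ N) (χ : G → ℂ) {l : ℕ}
    (hl : 0 < l) (hl' : l < N) :
    χ (σ ^ l) = ∑ a ∈ Ico 1 N, UU σ ζ N χ (a : ℕ) * expo ζ (a : ℕ) l := by
  classical
  have hz := hζ.ne_zero hN
  have hNc : (N : ℂ) ≠ 0 := Nat.cast_ne_zero.mpr hN
  -- the sum of the exponentials over `a`
  have hsum1 : ∑ a ∈ Ico 1 N, expo ζ (a : ℕ) l = -1 := by
    have h1 : ∑ a ∈ range N, expo ζ (a : ℕ) l = 0 := by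
      have h2 : ∀ a : ℕ, expo ζ (a : ℕ) l = expo ζ (l : ℕ) a := fun a => expo_natCast_swap hz a l
      simp only [h2]
      rw [expo_sum hζ hN, if_neg]
      intro hd
      have h3 : N ∣ l := by exact_mod_cast hd
      have := Nat.le_of_dvd hl h3
      omega
    rw [Finset.range_eq_Ico, Finset.sum_eq_sum_Ico_succ_bot (Nat.pos_of_ne_zero hN)] at h1
    simp only [Nat.cast_zero, expo_zero_left, zero_add] at h1
    linear_combination h1
  have hfull : ∑ a ∈ range N, coef σ ζ N χ (a : ℕ) * expo ζ (a : ℕ) l = χ (σ ^ l) := by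
    have h1 : ∀ a ∈ range N, coef σ ζ N χ (a : ℕ) * expo ζ (a : ℕ) l =
        (N : ℂ)⁻¹ * ∑ l' ∈ range N, χ (σ ^ l') * expo ζ ((l : ℤ) - l') a := by
      intro a _
      unfold coef
      rw [mul_assoc, Finset.sum_mul]
      congr 1
      refine Finset.sum_congr rfl fun l' _ => ?_
      rw [mul_assoc]
      congr 1
      rw [expo_eq_zpow hz, expo_eq_zpow hz, expo_eq_zpow hz, ← zpow_add₀ hz]
      congr 1
      ring
    rw [Finset.sum_congr rfl h1, ← Finset.mul_sum, Finset.sum_comm]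
    have h2 : ∀ l' ∈ range N, ∑ a ∈ range N, χ (σ ^ l') * expo ζ ((l : ℤ) - l') a =
        if l' = l then (N : ℂ) * χ (σ ^ l') else 0 := by
      intro l' hl''
      have hl3 := Finset.mem_range.mp hl''
      rw [← Finset.mul_sum, expo_sum hζ hN]
      by_cases e : l' = l
      · subst e
        simp [mul_comm]
      · rw [if_neg e, if_neg, mul_zero]
        intro hd
        apply e
        have h5 := Int.eq_zero_of_abs_lt_dvd hd (by
          rw [abs_lt]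
          omega)
        omega
    rw [Finset.sum_congr rfl h2, Finset.sum_ite_eq', if_pos (Finset.mem_range.mpr hl')]
    field_simp
  rw [← hfull, Finset.range_eq_Ico, Finset.sum_eq_sum_Ico_succ_bot (Nat.pos_of_ne_zero hN)]
  simp only [UU]
  simp only [sub_mul]
  rw [Finset.sum_sub_distrib, ← Finset.mul_sum, hsum1]
  simp only [Nat.cast_zero, expo_zero_left, zero_add, mul_one]
  ring

/-- Decomposition of a sum over `1 ≤ a < 2 m`. -/
theorem sum_Ico_double (F : ℕ → ℂ) {m : ℕ} (hm : 0 < m) :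
    ∑ a ∈ Ico 1 (2 * m), F a =
      F m + ∑ j : Fin (m - 1), (F ((j : ℕ) + 1) + F (2 * m - ((j : ℕ) + 1))) := by
  rw [Fin.sum_univ_eq_sum_range (fun j => F (j + 1) + F (2 * m - (j + 1))) (m - 1),
    Finset.sum_add_distrib]
  have h1 : ∑ j ∈ range (m - 1), F (j + 1) = ∑ a ∈ Ico 1 m, F a := by
    rw [Finset.sum_Ico_eq_sum_range]
    refine Finset.sum_congr rfl fun j _ => ?_
    rw [add_comm]
  have h2 : ∑ j ∈ range (m - 1), F (2 * m - (j + 1)) = ∑ a ∈ Ico (m + 1) (2 * m), F a := by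
    have h3 := Finset.sum_Ico_reflect F (m := m) (n := 2 * m) 1 (by omega)
    have h4 : 2 * m + 1 - m = m + 1 := by omega
    have h5 : 2 * m + 1 - 1 = 2 * m := by omega
    rw [h4, h5] at h3
    rw [← h3, Finset.sum_Ico_eq_sum_range]
    refine Finset.sum_congr rfl fun j _ => ?_
    rw [add_comm]
  rw [h1, h2, ← Finset.sum_Ico_consecutive F (m := 1) (n := m) (k := 2 * m) hm (by omega),
    Finset.sum_eq_sum_Ico_succ_bot (a := m) (b := 2 * m) (by omega)]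
  ring

end Cfsg.Agent.Lib.DihBlock
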