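import Cfsg.Agent.Lib.DihBlock.Proj
import Cfsg.Agent.Lib.V4Block.Count

/-!
# Counting involutions for groups with dihedral Sylow 2-subgroups and one class of involutions
-/

set_option autoImplicit false
set_option linter.unusedSectionVars false
set_option linter.style.haveILetI false

namespace Cfsg.Agent.Lib.DihBlock

open Cfsg Subgroup Finset
open Cfsg.Agent.Lib.V4Block

universe u

variable {G : Type u} [Group G] [Fintype G]
variable {P : Sylow 2 G} {σ τ : G} {N : ℕ}

open Classical in
/-- The involutions commuting with `z`, different from `z`. -/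
noncomputable def Iz (z : G) : Finset G :=
  univ.filter fun a => orderOf a = 2 ∧ Commute a z ∧ a ≠ z

open Classical in
/-- All involutions. -/
noncomputable def KK (G : Type u) [Group G] [Fintype G] : Finset G :=
  univ.filter fun a => orderOf a = 2

theorem mem_Iz {z a : G} : a ∈ Iz z ↔ orderOf a = 2 ∧ Commute a z ∧ a ≠ z := by
  classical
  simp [Iz]

theorem mem_KK {a : G} : a ∈ KK G ↔ orderOf a = 2 := by
  classical
  simp [KK]

theorem Iz_subset (z : G) : Iz z ⊆ KK G := fun _ ha => mem_KK.mpr (mem_Iz.mp ha).1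

theorem mem_Iz_conj {z a : G} (t : G) (ha : a ∈ Iz z) : t * a * t⁻¹ ∈ Iz (t * z * t⁻¹) := by
  obtain ⟨h1, h2, h3⟩ := mem_Iz.mp ha
  refine mem_Iz.mpr ⟨by rw [orderOf_conj_eq, h1], ?_, ?_⟩
  · have := h2.map (MulAut.conj t)
    simpa [MulAut.conj_apply] using this
  · intro e
    apply h3
    have := mul_left_cancel (mul_right_cancel e)
    exact this

/-- Transport of a sum by conjugation. -/
theorem sum_Iz_conj (t z : G) (F : G → ℂ) :
    ∑ a ∈ Iz z, F (t * a * t⁻¹) = ∑ a ∈ Iz (t * z * t⁻¹), F a := by
  refine Finset.sum_nbij' (fun a => t * a * t⁻¹) (fun a => t⁻¹ * a * t) ?_ ?_ ?_ ?_ ?_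
  · intro a ha
    exact mem_Iz_conj t ha
  · intro a ha
    have := mem_Iz_conj t⁻¹ ha
    rw [inv_inv] at this
    have e : t⁻¹ * (t * z * t⁻¹) * t = z := by group
    rwa [e] at this
  · intro a _
    group
  · intro a _
    group
  · intro a _
    rfl

/-- The number of conjugators. -/
theorem card_fiber_conj {J a : G} (hc : IsConj J a) [DecidablePred fun t => t * J * t⁻¹ = a] :
    (univ.filter fun t => t * J * t⁻¹ = a).card = Nat.card (centralizer ({J} : Set G)) := by
  classical
  obtain ⟨s, hs⟩ := isConj_iff.mp hc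
  rw [← card_cen_eq]
  symm
  refine Finset.card_bij (fun k _ => s * k) ?_ ?_ ?_
  · intro k hk
    simp only [mem_filter, mem_univ, true_and] at hk ⊢
    rw [← hs]
    have h1 : k * J * k⁻¹ = J := by
      rw [← hk.eq]
      group
    calc s * k * J * (s * k)⁻¹ = s * (k * J * k⁻¹) * s⁻¹ := by group
      _ = _ := by rw [h1]
  · intro x _ y _ h
    exact mul_left_cancel h
  · intro t ht
    simp only [mem_filter, mem_univ, true_and] at ht
    refine ⟨s⁻¹ * t, ?_, by group⟩
    simp only [mem_filter, mem_univ, true_and]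
    have h2 : s⁻¹ * t * J * t⁻¹ * s = J := by
      calc s⁻¹ * t * J * t⁻¹ * s = s⁻¹ * (t * J * t⁻¹) * s := by group
        _ = J := by rw [ht, ← hs]; group
    show J * (s⁻¹ * t) = (s⁻¹ * t) * J
    calc J * (s⁻¹ * t) = (s⁻¹ * t * J * t⁻¹ * s) * (s⁻¹ * t) := by rw [h2]
      _ = _ := by group

/-- Summing over conjugators. -/
theorem sum_conj_eq {J : G} (hJ : orderOf J = 2) (hone : ∀ a, orderOf a = 2 → IsConj a J)
    (F : G → ℂ) :
    ∑ t : G, F (t * J * t⁻¹) = (Nat.card (centralizer ({J} : Set G)) : ℂ) * ∑ a ∈ KK G, F a := by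
  classical
  have hm : ∀ t ∈ (univ : Finset G), t * J * t⁻¹ ∈ KK G := by
    intro t _
    rw [mem_KK, orderOf_conj_eq, hJ]
  rw [← Finset.sum_fiberwise_of_maps_to hm, Finset.mul_sum]
  refine Finset.sum_congr rfl fun a ha => ?_
  have h1 : ∀ t ∈ (univ.filter fun t => t * J * t⁻¹ = a), F (t * J * t⁻¹) = F a := by
    intro t ht
    rw [(Finset.mem_filter.mp ht).2]
  rw [Finset.sum_congr rfl h1, Finset.sum_const, nsmul_eq_mul,
    card_fiber_conj (hone a (mem_KK.mp ha)).symm]

/-- The central involution of the dihedral group generated by two involutions. -/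
theorem exists_center {J a : G} (hJ : orderOf J = 2) (ha : orderOf a = 2)
    (hev : 2 ∣ orderOf (J * a)) :
    ∃ k : ℕ, orderOf ((J * a) ^ k) = 2 ∧ Commute ((J * a) ^ k) J ∧ Commute ((J * a) ^ k) a ∧
      (J * a) ^ k ≠ J ∧ (J * a) ^ k ≠ a := by
  have hJJ : J * J = 1 := mul_self_of_orderOf_two hJ
  have haa : a * a = 1 := mul_self_of_orderOf_two ha
  have hJi : J⁻¹ = J := inv_eq_of_mul_eq_one_left hJJ
  have hai : a⁻¹ = a := inv_eq_of_mul_eq_one_left haa
  set x := J * a with hx
  have hxi : x⁻¹ = a * J := by rw [hx, mul_inv_rev, hai, hJi]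
  obtain ⟨m, hm⟩ := hev
  have hmpos : 0 < m := by
    have := orderOf_pos x
    rw [hm] at this
    omega
  have hk : orderOf (x ^ m) = 2 := by
    rw [orderOf_pow_of_dvd hmpos.ne' ⟨2, by rw [hm]; ring⟩, hm]
    exact Nat.mul_div_cancel _ hmpos
  have hzz : x ^ m * x ^ m = 1 := mul_self_of_orderOf_two hk
  have hzi : (x ^ m)⁻¹ = x ^ m := inv_eq_of_mul_eq_one_left hzz
  have hJx : J * x * J⁻¹ = x⁻¹ := by
    rw [hxi, hx, hJi]
    calc J * (J * a) * J = (J * J) * a * J := by group
      _ = a * J := by rw [hJJ, one_mul]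
  have hax : a * x * a⁻¹ = x⁻¹ := by
    rw [hxi, hx, hai]
    calc a * (J * a) * a = a * J * (a * a) := by group
      _ = a * J := by rw [haa, mul_one]
  have hconjJ : J * x ^ m * J⁻¹ = x ^ m := by
    rw [← conj_pow, hJx, inv_pow, hzi]
  have hconja : a * x ^ m * a⁻¹ = x ^ m := by
    rw [← conj_pow, hax, inv_pow, hzi]
  have hcJ : Commute (x ^ m) J := by
    show x ^ m * J = J * x ^ m
    calc x ^ m * J = (J * x ^ m * J⁻¹) * J := by rw [hconjJ]
      _ = J * x ^ m := by group
  have hca : Commute (x ^ m) a := by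
    show x ^ m * a = a * x ^ m
    calc x ^ m * a = (a * x ^ m * a⁻¹) * a := by rw [hconja]
      _ = a * x ^ m := by group
  -- if `J` or `a` commutes with `x`, then `m = 1`
  have hm1 : Commute J a → m = 1 := by
    intro hc
    have h1 : x * x = 1 := by
      calc x * x = J * (a * J) * a := by rw [hx]; group
        _ = J * (J * a) * a := by rw [hc.symm.eq]
        _ = (J * J) * (a * a) := by group
        _ = 1 := by rw [hJJ, haa, one_mul]
    have h2 : orderOf x ∣ 2 := orderOf_dvd_of_pow_eq_one (by rw [sq]; exact h1)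
    rw [hm] at h2
    have h3 := Nat.le_of_dvd (by norm_num) h2
    omega
  refine ⟨m, hk, hcJ, hca, ?_, ?_⟩
  · intro e
    have hc : Commute J x := by
      rw [← e]
      exact Commute.pow_left (Commute.refl x) m
    have hc' : Commute J a := by
      have h1 : J * (J * a) = (J * a) * J := hc
      have h2 : a = J * a * J := by
        calc a = (J * J) * a := by rw [hJJ, one_mul]
          _ = J * (J * a) := by group
          _ = J * a * J := h1
      show J * a = a * J
      calc J * a = J * (J * a * J) := by rw [← h2]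
        _ = (J * J) * a * J := by group
        _ = a * J := by rw [hJJ, one_mul]
    have h1 := hm1 hc'
    rw [h1, pow_one, hx] at e
    have h2 : a = 1 := by
      have : J * a = J * 1 := by rw [e, mul_one]
      exact mul_left_cancel this
    rw [h2] at ha
    simp at ha
  · intro e
    have hc : Commute a x := by
      rw [← e]
      exact Commute.pow_left (Commute.refl x) m
    have hc' : Commute J a := by
      have h1 : a * (J * a) = (J * a) * a := hc
      have h2 : a * J * a = J := by
        calc a * J * a = a * (J * a) := by group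
          _ = (J * a) * a := h1
          _ = J * (a * a) := by group
          _ = J := by rw [haa, mul_one]
      show J * a = a * J
      calc J * a = (a * J * a) * a := by rw [h2]
        _ = a * J * (a * a) := by group
        _ = a * J := by rw [haa, mul_one]
    have h1 := hm1 hc'
    rw [h1, pow_one, hx] at e
    have h2 : J = 1 := by
      have : J * a = 1 * a := by rw [e, one_mul]
      exact mul_right_cancel this
    rw [h2] at hJ
    simp at hJ

end Cfsg.Agent.Lib.DihBlock
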