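import Cfsg.Agent.Lib.DihBlock.Invol

/-!
# The sum over involutions
-/

set_option autoImplicit false
set_option linter.unusedSectionVars false
set_option linter.style.haveILetI false

namespace Cfsg.Agent.Lib.DihBlock

open Cfsg Subgroup Finset
open Cfsg.Agent.Lib.V4Block

universe u

variable {G : Type u} [Group G] [Fintype G]
variable {P : Sylow 2 G} {σ τ : G} {N : ℕ}

/-- An element commuting with `J`, as an element of the centralizer. -/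
def toC {J a : G} (h : Commute a J) : centralizer ({J} : Set G) :=
  ⟨a, Subgroup.mem_centralizer_singleton_iff.mpr h.eq⟩

@[simp] theorem toC_coe {J a : G} (h : Commute a J) : (toC h : G) = a := rfl

theorem toC_mul {J a b : G} (h : Commute a J) (h' : Commute b J) (h'' : Commute (a * b) J) :
    toC h'' = toC h * toC h' := rfl

theorem pow_eq_of_pow_eq {ξ : ℂ} (hσ : orderOf σ = N) (hξ : IsPrimitiveRoot ξ N) {u v : ℕ}
    (e : σ ^ u = σ ^ v) : ξ ^ u = ξ ^ v := by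
  rw [pow_eq_pow_iff_modEq, hσ] at e
  have h1 := hξ.eq_orderOf
  have h2 : u % orderOf ξ = v % orderOf ξ := by
    rw [← h1]
    exact e
  rw [← pow_mod_orderOf ξ u, ← pow_mod_orderOf ξ v, h2]

/-- The properties of the class function. -/
structure Phi (σ : G) (ζ : ℂ) (N : ℕ) (π : centralizer ({σ ^ (N / 2)} : Set G) →* G) (φ : G → ℂ) :
    Prop where
  conj : ∀ t g, φ (t * g * t⁻¹) = φ g
  odd : ∀ g, ¬ 2 ∣ orderOf g → φ g = 0
  val : ∀ (g : centralizer ({σ ^ (N / 2)} : Set G)) (m : ℤ), π g = σ ^ m → φ g = 2 - ζ ^ m - ζ ^ (-m)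

namespace DihCtx

variable {π : centralizer ({σ ^ (N / 2)} : Set G) →* G} {ζ : ℂ} {φ : G → ℂ}

theorem exists_rf (h : DihCtx P σ τ N) (hπ : Proj P (σ ^ (N / 2)) π) :
    ∃ rf : G → ℕ, ∀ a (ha : a ∈ Iz (σ ^ (N / 2))), π (toC (mem_Iz.mp ha).2.1) = σ ^ rf a * τ := by
  classical
  have h1 : ∀ a : G, ∃ i : ℕ, ∀ (ha : a ∈ Iz (σ ^ (N / 2))),
      π (toC (mem_Iz.mp ha).2.1) = σ ^ i * τ := by
    intro a
    by_cases ha : a ∈ Iz (σ ^ (N / 2))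
    · obtain ⟨h2, h3, h4⟩ := mem_Iz.mp ha
      obtain ⟨i, hi⟩ := h.exists_refl hπ (x := toC h3)
        (by rw [Subgroup.orderOf_mk]; exact h2)
        (fun e => h4 (congrArg Subtype.val e))
      exact ⟨i, fun _ => hi⟩
    · exact ⟨0, fun h2 => absurd h2 ha⟩
  choose rf hrf using h1
  exact ⟨rf, hrf⟩

variable {rf : G → ℕ}

theorem τσinv (h : DihCtx P σ τ N) : τ * σ⁻¹ = σ * τ := by
  have h1 := h.rel
  have h2 : τ * σ⁻¹ * τ⁻¹ = σ := by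
    have := congrArg (fun x => x⁻¹) h1
    simp only [mul_inv_rev, inv_inv] at this
    rw [mul_assoc]
    exact this
  calc τ * σ⁻¹ = (τ * σ⁻¹ * τ⁻¹) * τ := by group
    _ = σ * τ := by rw [h2]

theorem σ_comm_J (_h : DihCtx P σ τ N) : Commute σ (σ ^ (N / 2)) :=
  (Commute.refl σ).pow_right _

/-- Conjugation by `σ` shifts the index. -/
theorem conj_shift (h : DihCtx P σ τ N) (hπ : Proj P (σ ^ (N / 2)) π)
    (hrf : ∀ a (ha : a ∈ Iz (σ ^ (N / 2))), π (toC (mem_Iz.mp ha).2.1) = σ ^ rf a * τ)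
    {a : G} (ha : a ∈ Iz (σ ^ (N / 2))) :
    ∃ ha' : σ * a * σ⁻¹ ∈ Iz (σ ^ (N / 2)), σ ^ rf (σ * a * σ⁻¹) = σ ^ (rf a + 2) := by
  have hJ : σ * σ ^ (N / 2) * σ⁻¹ = σ ^ (N / 2) := by
    rw [(h.σ_comm_J).eq]
    group
  have ha' : σ * a * σ⁻¹ ∈ Iz (σ ^ (N / 2)) := by
    have := mem_Iz_conj σ ha
    rwa [hJ] at this
  refine ⟨ha', ?_⟩
  have h1 := hrf _ ha'
  have hσC : Commute σ (σ ^ (N / 2)) := h.σ_comm_J
  have h2 : toC (mem_Iz.mp ha').2.1 = toC hσC * toC (mem_Iz.mp ha).2.1 * (toC hσC)⁻¹ := rfl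
  rw [h2, map_mul, map_mul, map_inv, hrf _ ha] at h1
  have h3 : π (toC hσC) = σ := hπ.fix _ h.σP
  rw [h3] at h1
  have h4 : σ * (σ ^ rf a * τ) * σ⁻¹ = σ ^ (rf a + 2) * τ := by
    calc σ * (σ ^ rf a * τ) * σ⁻¹ = σ * σ ^ rf a * (τ * σ⁻¹) := by group
      _ = σ * σ ^ rf a * (σ * τ) := by rw [h.τσinv]
      _ = σ ^ (rf a + 2) * τ := by
        rw [← pow_succ', ← mul_assoc, ← pow_succ]
  rw [h4] at h1
  exact (mul_right_cancel h1).symm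

/-- The sum of the roots of unity over the involutions vanishes. -/
theorem sum_rf_zero (h : DihCtx P σ τ N) (hπ : Proj P (σ ^ (N / 2)) π)
    (hrf : ∀ a (ha : a ∈ Iz (σ ^ (N / 2))), π (toC (mem_Iz.mp ha).2.1) = σ ^ rf a * τ)
    {ξ : ℂ} (hξ : IsPrimitiveRoot ξ N) : ∑ a ∈ Iz (σ ^ (N / 2)), ξ ^ rf a = 0 := by
  have hN := h.hN
  have hJ : σ * σ ^ (N / 2) * σ⁻¹ = σ ^ (N / 2) := by
    rw [(h.σ_comm_J).eq]
    group
  have h1 := sum_Iz_conj σ (σ ^ (N / 2)) (fun a => ξ ^ rf a)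
  rw [hJ] at h1
  have h2 : ∀ a ∈ Iz (σ ^ (N / 2)), ξ ^ rf (σ * a * σ⁻¹) = ξ ^ 2 * ξ ^ rf a := by
    intro a ha
    obtain ⟨-, h3⟩ := h.conj_shift hπ hrf ha
    rw [pow_eq_of_pow_eq h.σo hξ h3, pow_add, mul_comm]
  rw [Finset.sum_congr rfl h2, ← Finset.mul_sum] at h1
  have h3 : ξ ^ 2 ≠ 1 := hξ.pow_ne_one_of_pos_of_lt (by norm_num) (by omega)
  have h4 : (ξ ^ 2 - 1) * ∑ a ∈ Iz (σ ^ (N / 2)), ξ ^ rf a = 0 := by
    rw [sub_mul, h1]
    ring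
  exact (mul_eq_zero.mp h4).resolve_left (sub_ne_zero.mpr h3)

/-- The product of two involutions. -/
theorem π_mul (h : DihCtx P σ τ N) (hπ : Proj P (σ ^ (N / 2)) π)
    (hrf : ∀ a (ha : a ∈ Iz (σ ^ (N / 2))), π (toC (mem_Iz.mp ha).2.1) = σ ^ rf a * τ)
    {r a : G} (hr : r ∈ Iz (σ ^ (N / 2))) (ha : a ∈ Iz (σ ^ (N / 2)))
    (hc : Commute (r * a) (σ ^ (N / 2))) :
    π (toC hc) = σ ^ ((rf r : ℤ) - (rf a : ℤ)) := by
  have h1 : toC hc = toC (mem_Iz.mp hr).2.1 * toC (mem_Iz.mp ha).2.1 := rfl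
  rw [h1, map_mul, hrf _ hr, hrf _ ha]
  have h2 := h.conj_zpow (rf a : ℤ)
  rw [h.τinv] at h2
  rw [zpow_sub, zpow_natCast, zpow_natCast]
  rw [zpow_natCast] at h2
  calc σ ^ rf r * τ * (σ ^ rf a * τ) = σ ^ rf r * (τ * σ ^ rf a * τ) := by group
    _ = σ ^ rf r * (σ ^ rf a)⁻¹ := by rw [h2]

/-- The sum over the second involution. -/
theorem sum_r (h : DihCtx P σ τ N) (hπ : Proj P (σ ^ (N / 2)) π) (hζ : IsPrimitiveRoot ζ N)
    (hφ : Phi σ ζ N π φ) {r : G} (hr : r ∈ Iz (σ ^ (N / 2))) :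
    ∑ a ∈ Iz (σ ^ (N / 2)), φ (r * a) = 2 * ((Iz (σ ^ (N / 2))).card : ℂ) := by
  obtain ⟨rf, hrf⟩ := h.exists_rf hπ
  have hN0 : N ≠ 0 := by
    have := h.hN
    omega
  have hz := hζ.ne_zero hN0
  have h1 : ∀ a ∈ Iz (σ ^ (N / 2)), φ (r * a) =
      2 - ζ ^ rf r * (ζ⁻¹) ^ rf a - (ζ ^ rf r)⁻¹ * ζ ^ rf a := by
    intro a ha
    have hc : Commute (r * a) (σ ^ (N / 2)) :=
      (mem_Iz.mp hr).2.1.mul_left (mem_Iz.mp ha).2.1
    have h2 := hφ.val (toC hc) _ (h.π_mul hπ hrf hr ha hc)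
    rw [toC_coe] at h2
    rw [h2, zpow_sub₀ hz, neg_sub, zpow_sub₀ hz]
    simp only [zpow_natCast, inv_pow]
    rw [div_eq_mul_inv, div_eq_mul_inv, mul_comm (ζ ^ rf a)]
  rw [Finset.sum_congr rfl h1, Finset.sum_sub_distrib, Finset.sum_sub_distrib, ← Finset.mul_sum,
    ← Finset.mul_sum, h.sum_rf_zero hπ hrf hζ, h.sum_rf_zero hπ hrf hζ.inv]
  simp only [Finset.sum_const, nsmul_eq_mul]
  ring

/-- The sum over the involutions commuting with a given involution. -/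
theorem sum_z (h : DihCtx P σ τ N) (hπ : Proj P (σ ^ (N / 2)) π) (hζ : IsPrimitiveRoot ζ N)
    (hφ : Phi σ ζ N π φ) (hone : ∀ a : G, orderOf a = 2 → IsConj a (σ ^ (N / 2)))
    {z : G} (hz : z ∈ Iz (σ ^ (N / 2))) :
    ∑ a ∈ Iz z, φ (σ ^ (N / 2) * a) = 2 * ((Iz (σ ^ (N / 2))).card : ℂ) := by
  obtain ⟨hz2, hzc, hzne⟩ := mem_Iz.mp hz
  obtain ⟨t, ht⟩ := isConj_iff.mp (hone z hz2)
  have hJz : σ ^ (N / 2) ∈ Iz z := mem_Iz.mpr ⟨h.J_order, hzc.symm, hzne.symm⟩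
  have hr : t * σ ^ (N / 2) * t⁻¹ ∈ Iz (σ ^ (N / 2)) := by
    have := mem_Iz_conj t hJz
    rwa [ht] at this
  have h1 : ∀ a ∈ Iz z, φ (σ ^ (N / 2) * a) =
      (fun b => φ ((t * σ ^ (N / 2) * t⁻¹) * b)) (t * a * t⁻¹) := by
    intro a _
    simp only
    rw [← hφ.conj t (σ ^ (N / 2) * a)]
    congr 1
    group
  refine (Finset.sum_congr rfl h1).trans
    ((sum_Iz_conj t z (fun b => φ ((t * σ ^ (N / 2) * t⁻¹) * b))).trans ?_)
  rw [ht]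
  exact h.sum_r hπ hζ hφ hr

/-- The uniqueness of the central involution. -/
theorem eq_center (h : DihCtx P σ τ N) (hπ : Proj P (σ ^ (N / 2)) π)
    (hone : ∀ a : G, orderOf a = 2 → IsConj a (σ ^ (N / 2)))
    {a z : G} (hz : z ∈ Iz (σ ^ (N / 2))) (haz : a ∈ Iz z) {k : ℕ}
    (hk : orderOf ((σ ^ (N / 2) * a) ^ k) = 2) : (σ ^ (N / 2) * a) ^ k = z := by
  obtain ⟨rf, hrf⟩ := h.exists_rf hπ
  obtain ⟨hz2, hzc, hzne⟩ := mem_Iz.mp hz
  obtain ⟨t, ht⟩ := isConj_iff.mp (hone z hz2)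
  have hJz : σ ^ (N / 2) ∈ Iz z := mem_Iz.mpr ⟨h.J_order, hzc.symm, hzne.symm⟩
  have hr : t * σ ^ (N / 2) * t⁻¹ ∈ Iz (σ ^ (N / 2)) := by
    have := mem_Iz_conj t hJz
    rwa [ht] at this
  have ha' : t * a * t⁻¹ ∈ Iz (σ ^ (N / 2)) := by
    have := mem_Iz_conj t haz
    rwa [ht] at this
  have hc : Commute ((t * σ ^ (N / 2) * t⁻¹) * (t * a * t⁻¹)) (σ ^ (N / 2)) :=
    (mem_Iz.mp hr).2.1.mul_left (mem_Iz.mp ha').2.1
  have hpm := h.π_mul hπ hrf hr ha' hc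
  set g := toC hc with hg
  have hgval : (g : G) = t * (σ ^ (N / 2) * a) * t⁻¹ := by
    rw [hg, toC_coe]
    group
  -- the power
  have hpow : ((g ^ k : centralizer ({σ ^ (N / 2)} : Set G)) : G) =
      t * (σ ^ (N / 2) * a) ^ k * t⁻¹ := by
    rw [Subgroup.coe_pow, hgval, conj_pow]
  have ho : orderOf (g ^ k) = 2 := by
    rw [← Subgroup.orderOf_coe, hpow, orderOf_conj_eq, hk]
  have hs : g ^ k * g ^ k = 1 := mul_self_of_orderOf_two ho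
  have hmem : π (g ^ k) ∈ zpowers σ := by
    rw [map_pow, hpm]
    exact pow_mem (zpow_mem (mem_zpowers σ) _) k
  have hsq : π (g ^ k) * π (g ^ k) = 1 := by
    rw [← map_mul, hs, map_one]
  have hJ : g ^ k = JC σ N := by
    rcases h.eq_J hmem hsq with e | e
    · exfalso
      apply hπ.ker _ e
      rw [ho]
    · exact h.eq_JC_of_map hπ hs e
  have h2 : t * (σ ^ (N / 2) * a) ^ k * t⁻¹ = t * z * t⁻¹ := by
    rw [← hpow, hJ, ht]
    rfl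
  exact mul_left_cancel (mul_right_cancel h2)

/-- **The sum over involutions**. -/
theorem main_sum (h : DihCtx P σ τ N) (hπ : Proj P (σ ^ (N / 2)) π) (hζ : IsPrimitiveRoot ζ N)
    (hφ : Phi σ ζ N π φ) (hone : ∀ a : G, orderOf a = 2 → IsConj a (σ ^ (N / 2))) :
    ∑ a ∈ KK G, φ (σ ^ (N / 2) * a) = 2 * ((Iz (σ ^ (N / 2))).card : ℂ) ^ 2 := by
  classical
  have h1 : ∑ z ∈ Iz (σ ^ (N / 2)), ∑ a ∈ Iz z, φ (σ ^ (N / 2) * a) =
      2 * ((Iz (σ ^ (N / 2))).card : ℂ) ^ 2 := by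
    rw [Finset.sum_congr rfl (fun z hz => h.sum_z hπ hζ hφ hone hz), Finset.sum_const, nsmul_eq_mul]
    ring
  rw [← h1]
  have h2 : ∀ z, ∑ a ∈ Iz z, φ (σ ^ (N / 2) * a) =
      ∑ a ∈ KK G, if a ∈ Iz z then φ (σ ^ (N / 2) * a) else 0 := by
    intro z
    rw [Finset.sum_ite_mem, Finset.inter_eq_right.mpr (Iz_subset z)]
  simp only [h2]
  rw [Finset.sum_comm]
  refine Finset.sum_congr rfl fun a ha => ?_
  have ha2 := mem_KK.mp ha
  by_cases hev : 2 ∣ orderOf (σ ^ (N / 2) * a)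
  · obtain ⟨k, hk, hc1, hc2, hne1, hne2⟩ := exists_center h.J_order ha2 hev
    have hz₀ : (σ ^ (N / 2) * a) ^ k ∈ Iz (σ ^ (N / 2)) := mem_Iz.mpr ⟨hk, hc1, hne1⟩
    have haz₀ : a ∈ Iz ((σ ^ (N / 2) * a) ^ k) := mem_Iz.mpr ⟨ha2, hc2.symm, hne2.symm⟩
    rw [Finset.sum_eq_single ((σ ^ (N / 2) * a) ^ k)]
    · rw [if_pos haz₀]
    · intro z hz hzne
      rw [if_neg]
      intro haz
      exact hzne (h.eq_center hπ hone hz haz hk).symm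
    · intro hn
      exact absurd hz₀ hn
  · rw [hφ.odd _ hev]
    simp

end DihCtx

end Cfsg.Agent.Lib.DihBlock
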