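import Cfsg.Agent.Lib.DihBlock.Main

/-!
# One class of involutions: the structure of the involutions commuting with `J`
-/

set_option autoImplicit false
set_option linter.unusedSectionVars false
set_option linter.style.haveILetI false

namespace Cfsg.Agent.Lib.DihBlock

open Cfsg Subgroup Finset
open Cfsg.Agent.Lib.V4Block
open scoped Pointwise

universe u

variable {G : Type u} [Group G] [Fintype G]
variable {P : Sylow 2 G} {σ τ : G} {N : ℕ}

/-- The generators from a closure hypothesis. -/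
theorem dihCtx_of_closure {P : Sylow 2 G} {σ τ : G} {N : ℕ} (hN : 4 ≤ N) (hNp : ∃ k, N = 2 ^ k)
    (hσ : σ ∈ (P : Subgroup G)) (hτ : τ ∈ (P : Subgroup G)) (hσo : orderOf σ = N)
    (hτo : orderOf τ = 2) (hrel : τ * σ * τ⁻¹ = σ⁻¹)
    (hgen : Subgroup.closure ({σ, τ} : Set G) = (P : Subgroup G)) : DihCtx P σ τ N := by
  refine ⟨hN, hNp, hσ, hτ, hσo, hτo, hrel, ?_⟩
  have hττ : τ * τ = 1 := mul_self_of_orderOf_two hτo
  have hτi : τ⁻¹ = τ := inv_eq_of_mul_eq_one_left hττ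
  have hconj : ∀ i : ℤ, τ * σ ^ i = σ ^ (-i) * τ := by
    intro i
    have h1 : τ * σ ^ i * τ⁻¹ = σ ^ (-i) := by
      rw [← _root_.conj_zpow, hrel, inv_zpow, zpow_neg]
    calc τ * σ ^ i = (τ * σ ^ i * τ⁻¹) * τ := by group
      _ = σ ^ (-i) * τ := by rw [h1]
  have hmain : ∀ x ∈ Subgroup.closure ({σ, τ} : Set G), ∃ i : ℤ, x = σ ^ i ∨ x = σ ^ i * τ := by
    intro x hx
    induction hx using Subgroup.closure_induction with
    | mem x hx =>
      rcases hx with rfl | rfl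
      · exact ⟨1, Or.inl (by simp)⟩
      · exact ⟨0, Or.inr (by simp)⟩
    | one => exact ⟨0, Or.inl (by simp)⟩
    | mul x y _ _ hx hy =>
      obtain ⟨i, rfl | rfl⟩ := hx <;> obtain ⟨j, rfl | rfl⟩ := hy
      · exact ⟨i + j, Or.inl (by rw [zpow_add])⟩
      · exact ⟨i + j, Or.inr (by rw [zpow_add, mul_assoc])⟩
      · refine ⟨i - j, Or.inr ?_⟩
        rw [mul_assoc, hconj, ← mul_assoc, ← zpow_add, sub_eq_add_neg]
      · refine ⟨i - j, Or.inl ?_⟩
        calc σ ^ i * τ * (σ ^ j * τ) = σ ^ i * (τ * σ ^ j) * τ := by group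
          _ = σ ^ i * (σ ^ (-j) * τ) * τ := by rw [hconj]
          _ = σ ^ i * σ ^ (-j) * (τ * τ) := by group
          _ = σ ^ (i - j) := by rw [hττ, mul_one, ← zpow_add, sub_eq_add_neg]
    | inv x _ hx =>
      obtain ⟨i, rfl | rfl⟩ := hx
      · exact ⟨-i, Or.inl (by rw [zpow_neg])⟩
      · refine ⟨i, Or.inr ?_⟩
        rw [mul_inv_rev, hτi, ← zpow_neg, hconj, neg_neg]
  intro x hx
  rw [← hgen] at hx
  obtain ⟨i, hi⟩ := hmain x hx
  obtain ⟨k, hk⟩ := DihCtx.exists_pow (σ := σ) (zpow_mem_zpowers σ i)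
  refine ⟨k, ?_⟩
  rw [← hk]
  exact hi

namespace DihCtx

/-- Conjugating `τ` by a power of `σ`. -/
theorem conj_τ (h : DihCtx P σ τ N) (j : ℕ) : σ ^ j * τ * (σ ^ j)⁻¹ = σ ^ (2 * j) * τ := by
  have h1 := h.conj_mem (y := (σ ^ j)⁻¹) (inv_mem (pow_mem (mem_zpowers σ) j))
  rw [inv_inv] at h1
  have h2 : τ * (σ ^ j)⁻¹ = σ ^ j * τ := by
    calc τ * (σ ^ j)⁻¹ = (τ * (σ ^ j)⁻¹ * τ⁻¹) * τ := by group
      _ = σ ^ j * τ := by rw [h1]
  calc σ ^ j * τ * (σ ^ j)⁻¹ = σ ^ j * (τ * (σ ^ j)⁻¹) := by group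
    _ = σ ^ j * (σ ^ j * τ) := by rw [h2]
    _ = σ ^ (2 * j) * τ := by rw [← mul_assoc, two_mul, pow_add]

theorem conj_στ (h : DihCtx P σ τ N) (j : ℕ) :
    σ ^ j * (σ * τ) * (σ ^ j)⁻¹ = σ ^ (2 * j + 1) * τ := by
  have h1 := h.conj_τ j
  have h2 : σ ^ j * (σ * τ) * (σ ^ j)⁻¹ = σ * (σ ^ j * τ * (σ ^ j)⁻¹) := by
    have : σ ^ j * σ = σ * σ ^ j := ((Commute.refl σ).pow_left j).eq
    calc σ ^ j * (σ * τ) * (σ ^ j)⁻¹ = (σ ^ j * σ) * τ * (σ ^ j)⁻¹ := by group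
      _ = (σ * σ ^ j) * τ * (σ ^ j)⁻¹ := by rw [this]
      _ = _ := by group
  rw [h2, h1, ← mul_assoc, ← pow_succ']

/-- A reflection is conjugate to `τ` or `σ τ` by a power of `σ`. -/
theorem refl_cases (h : DihCtx P σ τ N) (i : ℕ) :
    ∃ j : ℕ, σ ^ j * τ * (σ ^ j)⁻¹ = σ ^ i * τ ∨ σ ^ j * (σ * τ) * (σ ^ j)⁻¹ = σ ^ i * τ := by
  rcases Nat.even_or_odd' i with ⟨j, rfl | rfl⟩
  · exact ⟨j, Or.inl (h.conj_τ j)⟩
  · exact ⟨j, Or.inr (h.conj_στ j)⟩

theorem στ_mem (h : DihCtx P σ τ N) : σ * τ ∈ (P : Subgroup G) :=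
  P.toSubgroup.mul_mem h.σP h.τP

theorem στ_order (h : DihCtx P σ τ N) : orderOf (σ * τ) = 2 := by
  have h1 := h.refl_sq 1
  rw [pow_one] at h1
  apply orderOf_two_of_mul_self h1
  intro e
  have : σ⁻¹ = τ := by
    exact inv_eq_of_mul_eq_one_right e
  apply h.τ_notMem
  rw [← this]
  exact inv_mem (mem_zpowers σ)

theorem στ_notMem (h : DihCtx P σ τ N) : σ * τ ∉ zpowers σ := by
  intro e
  apply h.τ_notMem
  have : τ = σ⁻¹ * (σ * τ) := by group
  rw [this]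
  exact Subgroup.mul_mem _ (inv_mem (mem_zpowers σ)) e

/-- All involutions are conjugate. -/
theorem one_class (h : DihCtx P σ τ N) (h1 : IsConj (σ ^ (N / 2)) τ)
    (h2 : IsConj (σ ^ (N / 2)) (σ * τ)) (a : G) (ha : orderOf a = 2) : IsConj a (σ ^ (N / 2)) := by
  classical
  obtain ⟨Q, hQ⟩ := exists_sylow_mem ha
  obtain ⟨g, rfl⟩ := MulAction.exists_smul_eq G P Q
  have hmem := (Cfsg.Agent.Lib.Transfer.Frobenius.mem_smul_sylow_iff g a P).mp hQ
  have hw : orderOf (g⁻¹ * a * g) = 2 := by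
    have := orderOf_conj_eq (G := G) g⁻¹ a
    rw [inv_inv] at this
    rw [this, ha]
  have hconj : IsConj a (g⁻¹ * a * g) := by
    rw [isConj_iff]
    exact ⟨g⁻¹, by group⟩
  refine hconj.trans ?_
  obtain ⟨i, hi | hi⟩ := h.gen _ hmem
  · have h3 := h.eq_J (y := g⁻¹ * a * g) (by rw [hi]; exact pow_mem (mem_zpowers σ) i)
      (mul_self_of_orderOf_two hw)
    rcases h3 with h3 | h3
    · exact absurd h3 (ne_one_of_orderOf_two hw)
    · rw [h3]
  · rw [hi]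
    obtain ⟨j, hj | hj⟩ := h.refl_cases i
    · rw [← hj]
      have h3 : IsConj (σ ^ j * τ * (σ ^ j)⁻¹) τ := by
        rw [isConj_iff]
        exact ⟨(σ ^ j)⁻¹, by group⟩
      exact h3.trans h1.symm
    · rw [← hj]
      have h3 : IsConj (σ ^ j * (σ * τ) * (σ ^ j)⁻¹) (σ * τ) := by
        rw [isConj_iff]
        exact ⟨(σ ^ j)⁻¹, by group⟩
      exact h3.trans h2.symm

open Classical in
/-- The involutions of `C(J)` are the two orbits. -/
theorem Iz_eq_union (h : DihCtx P σ τ N) :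
    Iz (σ ^ (N / 2)) = orb (σ ^ (N / 2)) τ ∪ orb (σ ^ (N / 2)) (σ * τ) := by
  classical
  haveI : Fact (Nat.Prime 2) := ⟨Nat.prime_two⟩
  have hle : (P : Subgroup G) ≤ centralizer ({σ ^ (N / 2)} : Set G) := fun x hx =>
    Subgroup.mem_centralizer_singleton_iff.mpr (h.J_comm hx).eq
  have hτne : ∀ {w : G}, w ∉ zpowers σ → orderOf w = 2 → Commute (σ ^ (N / 2)) w →
      ∀ c, Commute (σ ^ (N / 2)) c → c * w * c⁻¹ ∈ Iz (σ ^ (N / 2)) := by
    intro w hw hw2 hwc c hc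
    refine mem_Iz.mpr ⟨by rw [orderOf_conj_eq, hw2], ?_, ?_⟩
    · have h1 : Commute (c * w * c⁻¹) (σ ^ (N / 2)) := by
        exact ((hc.symm.mul_left hwc.symm).mul_left hc.symm.inv_left)
      exact h1
    · intro e
      apply hw
      have h1 : w = c⁻¹ * (c * w * c⁻¹) * c := by group
      have h2 : c⁻¹ * σ ^ (N / 2) * c = σ ^ (N / 2) := by
        rw [hc.symm.inv_left.eq]
        group
      rw [h1, e, h2]
      exact h.J_mem
  ext a
  rw [Finset.mem_union, mem_orb, mem_orb]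
  constructor
  · intro ha
    obtain ⟨ha2, hac, hane⟩ := mem_Iz.mp ha
    set x : centralizer ({σ ^ (N / 2)} : Set G) := toC hac with hx
    have hxo : orderOf x = 2 := by
      rw [hx]
      unfold toC
      rw [Subgroup.orderOf_mk]
      exact ha2
    have hz : IsPGroup 2 (zpowers x) :=
      IsPGroup.of_card (n := 1) (by rw [Nat.card_zpowers, hxo, pow_one])
    obtain ⟨Q, hQ⟩ := hz.exists_le_sylow
    obtain ⟨t, rfl⟩ := MulAction.exists_smul_eq (centralizer ({σ ^ (N / 2)} : Set G))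
      (P.subtype hle) Q
    have hw := (Cfsg.Agent.Lib.Transfer.Frobenius.mem_smul_sylow_iff t x (P.subtype hle)).mp
      (hQ (mem_zpowers x))
    have hw' : ((t⁻¹ * x * t : centralizer ({σ ^ (N / 2)} : Set G)) : G) ∈ (P : Subgroup G) := by
      have h3 : t⁻¹ * x * t ∈ ((P.subtype hle : Sylow 2 _) :
        Subgroup (centralizer ({σ ^ (N / 2)} : Set G))) := hw
      rw [Sylow.coe_subtype, Subgroup.mem_subgroupOf] at h3
      exact h3
    have htc : Commute (σ ^ (N / 2)) (t : G) :=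
      (Subgroup.mem_centralizer_singleton_iff.mp t.2).symm
    have hval : ((t⁻¹ * x * t : centralizer ({σ ^ (N / 2)} : Set G)) : G) =
        (t : G)⁻¹ * a * (t : G) := rfl
    rw [hval] at hw'
    have hwo : orderOf ((t : G)⁻¹ * a * (t : G)) = 2 := by
      have := orderOf_conj_eq (G := G) (t : G)⁻¹ a
      rw [inv_inv] at this
      rw [this, ha2]
    have haeq : ∀ w : G, (t : G)⁻¹ * a * (t : G) = w → a = (t : G) * w * (t : G)⁻¹ := by
      intro w e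
      rw [← e]
      group
    obtain ⟨i, hi | hi⟩ := h.gen _ hw'
    · exfalso
      have h3 := h.eq_J (y := (t : G)⁻¹ * a * (t : G)) (by rw [hi]; exact pow_mem (mem_zpowers σ) i)
        (mul_self_of_orderOf_two hwo)
      rcases h3 with h3 | h3
      · exact ne_one_of_orderOf_two hwo h3
      · apply hane
        rw [haeq _ h3, htc.symm.eq]
        group
    · have hae := haeq _ hi
      have hσj : ∀ j : ℕ, Commute (σ ^ (N / 2)) ((t : G) * σ ^ j) := fun j =>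
        htc.mul_right ((Commute.refl σ).pow_pow _ _)
      obtain ⟨j, hj | hj⟩ := h.refl_cases i
      · refine Or.inl ⟨(t : G) * σ ^ j, hσj j, ?_⟩
        rw [hae, ← hj]
        group
      · refine Or.inr ⟨(t : G) * σ ^ j, hσj j, ?_⟩
        rw [hae, ← hj]
        group
  · rintro (⟨c, hc, rfl⟩ | ⟨c, hc, rfl⟩)
    · exact hτne h.τ_notMem h.τo (h.J_comm h.τP).symm c hc
    · exact hτne h.στ_notMem h.στ_order (h.J_comm h.στ_mem).symm c hc

/-- An element of `P` cannot conjugate `σ τ` to `τ`. -/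
theorem not_conj_P (h : DihCtx P σ τ N) {p : G} (hp : p ∈ (P : Subgroup G)) :
    p * (σ * τ) * p⁻¹ ≠ τ := by
  have hm := h.half_two
  have hN := h.hN
  have hpar : ∀ k : ℕ, σ ^ (2 * k) ≠ σ ^ 1 := by
    intro k e
    rw [pow_eq_pow_iff_modEq, h.σo] at e
    have h2 : 2 ∣ N := ⟨N / 2, hm.symm⟩
    have h3 := e.of_dvd h2
    unfold Nat.ModEq at h3
    omega
  intro e
  obtain ⟨i, hi | hi⟩ := h.gen p hp
  · rw [hi, h.conj_στ i] at e
    have h1 : σ ^ (2 * i + 1) = 1 := by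
      have : σ ^ (2 * i + 1) * τ = 1 * τ := by rw [e, one_mul]
      exact mul_right_cancel this
    have h2 : N ∣ 2 * i + 1 := by
      rw [← h.σo]
      exact orderOf_dvd_of_pow_eq_one h1
    have h3 : 2 ∣ 2 * i + 1 := dvd_trans ⟨N / 2, hm.symm⟩ h2
    omega
  · rw [hi] at e
    have h1 : τ * σ = σ⁻¹ * τ := by
      calc τ * σ = (τ * σ * τ⁻¹) * τ := by group
        _ = σ⁻¹ * τ := by rw [h.rel]
    have h2 : (σ ^ i * τ) * (σ * τ) * (σ ^ i * τ)⁻¹ = σ⁻¹ * (σ ^ i * τ * (σ ^ i)⁻¹) := by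
      have hc : σ ^ i * σ⁻¹ = σ⁻¹ * σ ^ i := ((Commute.refl σ).inv_right.pow_left i).eq
      calc (σ ^ i * τ) * (σ * τ) * (σ ^ i * τ)⁻¹ = σ ^ i * (τ * σ) * (σ ^ i)⁻¹ := by group
        _ = σ ^ i * (σ⁻¹ * τ) * (σ ^ i)⁻¹ := by rw [h1]
        _ = (σ ^ i * σ⁻¹) * τ * (σ ^ i)⁻¹ := by group
        _ = (σ⁻¹ * σ ^ i) * τ * (σ ^ i)⁻¹ := by rw [hc]
        _ = _ := by group
    rw [h2, h.conj_τ i] at e
    have h3 : σ⁻¹ * σ ^ (2 * i) = 1 := by
      have : σ⁻¹ * σ ^ (2 * i) * τ = 1 * τ := by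
        rw [one_mul, mul_assoc]
        exact e
      exact mul_right_cancel this
    apply hpar i
    rw [pow_one]
    exact (inv_mul_eq_one.mp h3).symm

/-- The two orbits are disjoint. -/
theorem disjoint_orb (h : DihCtx P σ τ N) {π : centralizer ({σ ^ (N / 2)} : Set G) →* G}
    (hπ : Proj P (σ ^ (N / 2)) π) :
    Disjoint (orb (σ ^ (N / 2)) τ) (orb (σ ^ (N / 2)) (σ * τ)) := by
  classical
  rw [Finset.disjoint_left]
  intro a ha hb
  obtain ⟨c, hc, rfl⟩ := mem_orb.mp ha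
  obtain ⟨d, hd, hcd⟩ := mem_orb.mp hb
  have hcC : Commute c (σ ^ (N / 2)) := hc.symm
  have hdC : Commute d (σ ^ (N / 2)) := hd.symm
  have hτC : Commute τ (σ ^ (N / 2)) := h.J_comm h.τP
  have hστC : Commute (σ * τ) (σ ^ (N / 2)) := h.J_comm h.στ_mem
  have hcC' : Commute (c⁻¹ * d) (σ ^ (N / 2)) := hcC.inv_left.mul_left hdC
  have h1 : (c⁻¹ * d) * (σ * τ) * (c⁻¹ * d)⁻¹ = τ := by
    have : (c⁻¹ * d) * (σ * τ) * (c⁻¹ * d)⁻¹ = c⁻¹ * (d * (σ * τ) * d⁻¹) * c := by group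
    rw [this, hcd]
    group
  have h2 : toC hcC' * toC hστC * (toC hcC')⁻¹ = toC hτC := Subtype.ext h1
  have h3 := congrArg π h2
  rw [map_mul, map_mul, map_inv, hπ.fix (toC hστC) h.στ_mem, hπ.fix (toC hτC) h.τP] at h3
  simp only [toC_coe] at h3
  exact h.not_conj_P (hπ.mem _) h3

end DihCtx

end Cfsg.Agent.Lib.DihBlock
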