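import Cfsg.Agent.Lib.DihBlock.Table

/-!
# The projection of the centralizer of the central involution onto the Sylow subgroup
-/

set_option autoImplicit false
set_option linter.unusedSectionVars false
set_option linter.style.haveILetI false

namespace Cfsg.Agent.Lib.DihBlock

open Cfsg Subgroup
open Cfsg.Agent.Lib.V4Block Cfsg.Agent.Lib.Transfer.Basic Cfsg.Agent.Lib.ZStar.Section
open scoped Pointwise

universe u

variable {G : Type u} [Group G] [Finite G]
variable {P : Sylow 2 G} {σ τ : G} {N : ℕ}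

/-- The projection of the centralizer of `J` onto `P`. -/
structure Proj (P : Sylow 2 G) (J : G) (π : centralizer ({J} : Set G) →* G) : Prop where
  mem : ∀ x, π x ∈ (P : Subgroup G)
  fix : ∀ x : centralizer ({J} : Set G), (x : G) ∈ (P : Subgroup G) → π x = x
  ker : ∀ x, π x = 1 → ¬ 2 ∣ orderOf x

namespace DihCtx

/-- Existence of the projection. -/
theorem exists_proj (h : DihCtx P σ τ N) :
    ∃ π : centralizer ({σ ^ (N / 2)} : Set G) →* G, Proj P (σ ^ (N / 2)) π := by
  classical
  haveI : Fact (Nat.Prime 2) := ⟨Nat.prime_two⟩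
  have hle : (P : Subgroup G) ≤ centralizer ({σ ^ (N / 2)} : Set G) := fun x hx =>
    Subgroup.mem_centralizer_singleton_iff.mpr (h.J_comm hx).eq
  have hmemsub : ∀ c : centralizer ({σ ^ (N / 2)} : Set G),
      c ∈ ((P.subtype hle : Sylow 2 _) : Subgroup (centralizer ({σ ^ (N / 2)} : Set G))) ↔
        (c : G) ∈ (P : Subgroup G) := fun c => by
    rw [Sylow.coe_subtype, Subgroup.mem_subgroupOf]
  have hcompl := isComplement'_pResidual h.hasNormal (P.subtype hle)
  haveI hVn : (pResidual 2 (centralizer ({σ ^ (N / 2)} : Set G))).Normal := inferInstance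
  let e := hcompl.symm.QuotientMulEquiv
  let π : centralizer ({σ ^ (N / 2)} : Set G) →* G :=
    (Subgroup.subtype _).comp ((Subgroup.subtype _).comp
      (e.toMonoidHom.comp (QuotientGroup.mk' _)))
  have hval : ∀ x, π x = ((e (QuotientGroup.mk x) : (P.subtype hle : Sylow 2 _)) :
      centralizer ({σ ^ (N / 2)} : Set G)) := fun x => rfl
  refine ⟨π, ⟨?_, ?_, ?_⟩⟩
  · intro x
    exact (hmemsub _).mp (e (QuotientGroup.mk x)).2
  · intro x hx
    have hx' : x ∈ ((P.subtype hle : Sylow 2 _) : Subgroup (centralizer ({σ ^ (N / 2)} : Set G))) :=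
      (hmemsub _).mpr hx
    have h1 : e (QuotientGroup.mk x) = ⟨x, hx'⟩ := by
      rw [MulEquiv.apply_eq_iff_symm_apply]
      rfl
    rw [hval, h1]
  · intro x hx
    have h1 : e (QuotientGroup.mk x) = 1 := by
      apply Subtype.ext
      apply Subtype.ext
      exact hx
    have h2 : (QuotientGroup.mk x : _ ⧸ pResidual 2 (centralizer ({σ ^ (N / 2)} : Set G))) = 1 := by
      rw [← map_one e] at h1
      exact e.injective h1
    have h3 : x ∈ pResidual 2 (centralizer ({σ ^ (N / 2)} : Set G)) :=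
      (QuotientGroup.eq_one_iff x).mp h2
    have h4 := (mem_complement_iff hcompl x).mp h3
    intro h5
    have := Nat.Coprime.eq_one_of_dvd h4.symm h5
    omega

/-- Conjugation by an element of `P`. -/
theorem conj_P (h : DihCtx P σ τ N) {p y : G} (hp : p ∈ (P : Subgroup G)) (hy : y ∈ zpowers σ) :
    p * y * p⁻¹ = y ∨ p * y * p⁻¹ = y⁻¹ := by
  obtain ⟨i, rfl | rfl⟩ := h.gen p hp
  · left
    rw [(comm_of_mem (pow_mem (mem_zpowers σ) i) hy).eq]
    group
  · right
    exact h.refl_conj i hy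

theorem value_inv (h : DihCtx P σ τ N) {χ : IrrCharacter G} {y : G} (hy : y ∈ zpowers σ) :
    (χ : G → ℂ) y⁻¹ = (χ : G → ℂ) y := by
  have := Cfsg.Agent.Lib.Char.Basic.isClassFunction_of_isIrrCharacter χ.2 y τ
  rwa [h.conj_mem hy] at this

end DihCtx

namespace Proj

variable {J : G} {π : centralizer ({J} : Set G) →* G}

/-- Elements of odd order are in the kernel. -/
theorem eq_one_of_odd (hπ : Proj P J π) {x : centralizer ({J} : Set G)} (hx : ¬ 2 ∣ orderOf x) :
    π x = 1 := by
  have h1 : orderOf (π x) ∣ orderOf x := orderOf_map_dvd π x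
  have h2 : IsPGroup 2 (P : Subgroup G) := P.2
  obtain ⟨k, hk⟩ := h2 ⟨π x, hπ.mem x⟩
  have h3 : orderOf (π x) ∣ 2 ^ k := by
    apply orderOf_dvd_of_pow_eq_one
    have := congrArg Subtype.val hk
    simpa using this
  obtain ⟨j, -, hj⟩ := (Nat.dvd_prime_pow Nat.prime_two).mp h3
  cases j with
  | zero =>
    rw [pow_zero] at hj
    exact orderOf_eq_one_iff.mp hj
  | succ j =>
    exfalso
    apply hx
    apply dvd_trans _ h1
    rw [hj]
    exact Dvd.intro_left (2 ^ j) rfl

/-- An element of order at most two in the kernel is trivial. -/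
theorem eq_one_of_ker (hπ : Proj P J π) {x : centralizer ({J} : Set G)} (hx : π x = 1)
    (hs : x * x = 1) : x = 1 := by
  by_contra hne
  have h1 : orderOf x = 2 := orderOf_two_of_mul_self hs hne
  apply hπ.ker x hx
  rw [h1]

end Proj

namespace DihCtx

variable {π : centralizer ({σ ^ (N / 2)} : Set G) →* G}

/-- `J` as an element of its centralizer. -/
def JC (σ : G) (N : ℕ) : centralizer ({σ ^ (N / 2)} : Set G) :=
  ⟨σ ^ (N / 2), Subgroup.mem_centralizer_singleton_iff.mpr rfl⟩

theorem π_JC (h : DihCtx P σ τ N) (hπ : Proj P (σ ^ (N / 2)) π) : π (JC σ N) = σ ^ (N / 2) :=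
  hπ.fix _ (P.toSubgroup.pow_mem h.σP _)

/-- An element mapping to `J`, with square one, is `J`. -/
theorem eq_JC_of_map (h : DihCtx P σ τ N) (hπ : Proj P (σ ^ (N / 2)) π)
    {x : centralizer ({σ ^ (N / 2)} : Set G)} (hs : x * x = 1) (hx : π x = σ ^ (N / 2)) :
    x = JC σ N := by
  have hc : Commute x (JC σ N) := by
    apply Subtype.ext
    exact Subgroup.mem_centralizer_singleton_iff.mp x.2
  have hJJ : JC σ N * JC σ N = 1 := Subtype.ext h.J_sq
  have h1 : π (x * JC σ N) = 1 := by
    rw [map_mul, hx, h.π_JC hπ]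
    exact h.J_sq
  have h2 : (x * JC σ N) * (x * JC σ N) = 1 := by
    calc (x * JC σ N) * (x * JC σ N) = x * (JC σ N * x) * JC σ N := by group
      _ = x * (x * JC σ N) * JC σ N := by rw [← hc.eq]
      _ = (x * x) * (JC σ N * JC σ N) := by group
      _ = 1 := by rw [hs, hJJ, one_mul]
  have h3 := hπ.eq_one_of_ker h1 h2
  calc x = x * (JC σ N * JC σ N) := by rw [hJJ, mul_one]
    _ = (x * JC σ N) * JC σ N := by group
    _ = JC σ N := by rw [h3, one_mul]

/-- An involution of `C(J)` different from `J` maps to a reflection. -/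
theorem exists_refl (h : DihCtx P σ τ N) (hπ : Proj P (σ ^ (N / 2)) π)
    {x : centralizer ({σ ^ (N / 2)} : Set G)} (hx : orderOf x = 2) (hne : x ≠ JC σ N) :
    ∃ i : ℕ, π x = σ ^ i * τ := by
  obtain ⟨i, hi | hi⟩ := h.gen _ (hπ.mem x)
  · exfalso
    have hs : x * x = 1 := mul_self_of_orderOf_two hx
    have h1 : π x * π x = 1 := by rw [← map_mul, hs, map_one]
    rcases h.eq_J (y := π x) (by rw [hi]; exact pow_mem (mem_zpowers σ) i) h1 with h2 | h2
    · apply hπ.ker x h2
      rw [hx]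
    · exact hne (h.eq_JC_of_map hπ hs h2)
  · exact ⟨i, hi⟩

/-- An odd element in the centralizer of a rotation lies in the core. -/
theorem mem_core (h : DihCtx P σ τ N) {y : G} (hy : y ∈ zpowers σ) (hy1 : y ≠ 1)
    (c : centralizer ({y} : Set G)) (hc : ¬ 2 ∣ orderOf c) :
    c ∈ pPrimeCore 2 (centralizer ({y} : Set G)) := by
  haveI : Fact (Nat.Prime 2) := ⟨Nat.prime_two⟩
  obtain ⟨R⟩ : Nonempty (Sylow 2 (centralizer ({y} : Set G))) := inferInstance
  have hcompl := isComplement'_pResidual (h.hasNormal_of hy hy1) R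
  haveI : (pResidual 2 (centralizer ({y} : Set G))).Normal := inferInstance
  apply Cfsg.Agent.Lib.Core.Basic.le_pPrimeCore inferInstance
    (coprime_card_of_isComplement' hcompl)
  exact (mem_complement_iff hcompl c).mpr ((Nat.Prime.coprime_iff_not_dvd Nat.prime_two).mpr hc).symm

/-- The values of the characters of the principal block on `C(J)`. -/
theorem value_of_proj (h : DihCtx P σ τ N) (hπ : Proj P (σ ^ (N / 2)) π) {M : Ideal AlgInt}
    (hM : IsPModular 2 M) {χ : IrrCharacter G} (hχ : χ ∈ principalBlock M G)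
    (g : centralizer ({σ ^ (N / 2)} : Set G)) (hg : π g ∈ zpowers σ) (hg1 : π g ≠ 1) :
    (χ : G → ℂ) g = (χ : G → ℂ) (π g) := by
  classical
  haveI : Fact (Nat.Prime 2) := ⟨Nat.prime_two⟩
  have hle : (P : Subgroup G) ≤ centralizer ({σ ^ (N / 2)} : Set G) := fun x hx =>
    Subgroup.mem_centralizer_singleton_iff.mpr (h.J_comm hx).eq
  obtain ⟨x, y, hxy, hc, ⟨k, hk⟩, hy⟩ := Cfsg.Agent.Lib.Blocks.PPart.exists_pPart_y (p := 2) g
  have hπy : π y = 1 := hπ.eq_one_of_odd hy
  have hπx : π x = π g := by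
    rw [← hxy, map_mul, hπy, mul_one]
  -- conjugate `x` into `P`
  have hz : IsPGroup 2 (zpowers x) :=
    IsPGroup.of_card (n := k) (by rw [Nat.card_zpowers, hk])
  obtain ⟨Q, hQ⟩ := hz.exists_le_sylow
  obtain ⟨t, rfl⟩ := MulAction.exists_smul_eq (centralizer ({σ ^ (N / 2)} : Set G))
    (P.subtype hle) Q
  have hw := (Cfsg.Agent.Lib.Transfer.Frobenius.mem_smul_sylow_iff t x (P.subtype hle)).mp
    (hQ (mem_zpowers x))
  have hw' : ((t⁻¹ * x * t : centralizer ({σ ^ (N / 2)} : Set G)) : G) ∈ (P : Subgroup G) := by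
    have h3 : t⁻¹ * x * t ∈ ((P.subtype hle : Sylow 2 _) :
      Subgroup (centralizer ({σ ^ (N / 2)} : Set G))) := hw
    rw [Sylow.coe_subtype, Subgroup.mem_subgroupOf] at h3
    exact h3
  clear hw
  set w := t⁻¹ * x * t with hwdef
  have hwπ : π w = w := hπ.fix w hw'
  have hwval : (w : G) = π t⁻¹ * π g * (π t⁻¹)⁻¹ := by
    rw [← hwπ, hwdef, map_mul, map_mul, hπx, map_inv, inv_inv]
  have hcase : (w : G) = π g ∨ (w : G) = (π g)⁻¹ := by
    rw [hwval]
    exact h.conj_P (hπ.mem t⁻¹) hg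
  have hwZ : (w : G) ∈ zpowers σ := by
    rcases hcase with e | e <;> rw [e]
    · exact hg
    · exact inv_mem hg
  have hw1 : (w : G) ≠ 1 := by
    rcases hcase with e | e <;> rw [e]
    · exact hg1
    · exact inv_ne_one.mpr hg1
  have hwo : ∃ e : ℕ, orderOf (w : G) = 2 ^ e := h.order_pow hwZ
  -- the odd part
  set v := t⁻¹ * y * t with hvdef
  have hvo : ¬ 2 ∣ orderOf (v : G) := by
    have h1 : orderOf v = orderOf y := by
      have := (MulAut.conj t⁻¹).orderOf_eq y
      simpa [hvdef] using this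
    rw [Subgroup.orderOf_coe, h1]
    exact hy
  have hwv : Commute w v := by
    have := hc.map (MulAut.conj t⁻¹)
    simpa [hwdef, hvdef] using this
  have hwv' : Commute (w : G) (v : G) := by
    have := congrArg Subtype.val hwv.eq
    exact this
  have hvmem : (v : G) ∈ centralizer ({(w : G)} : Set G) :=
    Subgroup.mem_centralizer_singleton_iff.mpr hwv'.eq.symm
  have hcore := h.mem_core hwZ hw1 ⟨v, hvmem⟩ (by rw [Subgroup.orderOf_mk]; exact hvo)
  letI : Fintype G := Fintype.ofFinite G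
  haveI := Cfsg.Agent.Lib.Char.Ortho.finite_irrCharacter (G := G)
  letI := Fintype.ofFinite (IrrCharacter G)
  haveI := hM.2.1.isPrime
  have hz1 := Cfsg.Agent.Lib.Blocks.General.zstar hM hwo hcore hχ
  change (χ : G → ℂ) ((w : G) * (v : G)) = _ at hz1
  have hprod : (w : G) * (v : G) = ((t⁻¹ : centralizer ({σ ^ (N / 2)} : Set G)) : G) * (g : G) *
      ((t⁻¹ : centralizer ({σ ^ (N / 2)} : Set G)) : G)⁻¹ := by
    have h1 : w * v = t⁻¹ * g * (t⁻¹)⁻¹ := by
      rw [← hxy, hwdef, hvdef]
      group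
    exact congrArg Subtype.val h1
  rw [hprod, Cfsg.Agent.Lib.Char.Basic.isClassFunction_of_isIrrCharacter χ.2 _ _] at hz1
  rw [hz1]
  rcases hcase with e | e <;> rw [e]
  exact h.value_inv hg

end DihCtx

end Cfsg.Agent.Lib.DihBlock
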