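import Cfsg.Agent.Lib.DihBlock.Fourier

/-!
# The character table of the principal block: the values on the cyclic subgroup
-/

set_option autoImplicit false
set_option linter.unusedSectionVars false
set_option linter.style.haveILetI false

namespace Cfsg.Agent.Lib.DihBlock

open Cfsg Subgroup Finset
open Cfsg.Agent.Lib.V4Block Cfsg.Agent.Lib.ZStar.Section
open Cfsg.Agent.Lib.Char.Basic Cfsg.Agent.Lib.Char.Ortho Cfsg.Agent.Lib.Char.Degree
open Cfsg.Agent.Lib.Blocks.Third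
open scoped ComplexConjugate

universe u

variable {G : Type u} [Group G] [Fintype G] [Fintype (IrrCharacter G)]
variable {P : Sylow 2 G} {σ τ : G} {N : ℕ} {ζ : ℂ} {M : Ideal AlgInt}

/-- The trivial character as an element of the principal block. -/
noncomputable def idxOne (M : Ideal AlgInt) [M.IsPrime] (G : Type u) [Group G] [Fintype G]
    [Fintype (IrrCharacter G)] : Idx M G :=
  ⟨oneI G, Cfsg.Agent.Lib.Blocks.Third.principalBlock_eq_blockOf (G := G) M ▸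
    Cfsg.Agent.Lib.Blocks.Central.mem_blockOf_self (oneI G)⟩

theorem sum_expo_Ico (hN : N ≠ 0) (hζ : IsPrimitiveRoot ζ N) {l : ℕ} (hl : 0 < l) (hl' : l < N) :
    ∑ a ∈ Ico 1 N, expo ζ (a : ℕ) l = -1 := by
  have hz := hζ.ne_zero hN
  have h1 : ∑ a ∈ range N, expo ζ (a : ℕ) l = 0 := by
    have h2 : ∀ a : ℕ, expo ζ (a : ℕ) l = expo ζ (l : ℕ) a := fun a => expo_natCast_swap hz a l
    simp only [h2]
    rw [expo_sum hζ hN, if_neg]
    intro hd
    have h3 : N ∣ l := by exact_mod_cast hd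
    have := Nat.le_of_dvd hl h3
    omega
  rw [Finset.range_eq_Ico, Finset.sum_eq_sum_Ico_succ_bot (Nat.pos_of_ne_zero hN)] at h1
  simp only [Nat.cast_zero, expo_zero_left, zero_add] at h1
  linear_combination h1

theorem expo_half (hN : 2 * (N / 2) = N) (hN0 : N ≠ 0) (hζ : IsPrimitiveRoot ζ N) (l : ℕ) :
    expo ζ ((N / 2 : ℕ) : ℤ) l = (-1) ^ l := by
  have h1 : ζ ^ (N / 2) = -1 := by
    have h2 : (ζ ^ (N / 2)) ^ 2 = 1 := by
      rw [← pow_mul, mul_comm, hN, hζ.pow_eq_one]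
    have h3 : ζ ^ (N / 2) ≠ 1 := by
      intro h4
      have := hζ.dvd_of_pow_eq_one _ h4
      have h5 := Nat.le_of_dvd (by omega) this
      omega
    rw [sq] at h2
    rcases mul_self_eq_one_iff.mp h2 with h4 | h4 <;> tauto
  simp only [expo]
  rw [zpow_natCast, h1]

/-- The general form of the values. -/
theorem row_value (h : DihCtx P σ τ N) (hζ : IsPrimitiveRoot ζ N) {χ : G → ℂ}
    (hχ : IsClassFunction G χ) {l : ℕ} (hl : 0 < l) (hl' : l < N) :
    χ (σ ^ l) = UU σ ζ N χ ((N / 2 : ℕ) : ℤ) * expo ζ ((N / 2 : ℕ) : ℤ) l +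
      ∑ j : Fin (N / 2 - 1), UU σ ζ N χ (((j : ℕ) + 1 : ℕ) : ℤ) *
        (expo ζ (((j : ℕ) + 1 : ℕ) : ℤ) l + expo ζ (-(((j : ℕ) + 1 : ℕ) : ℤ)) l) := by
  have hN : N ≠ 0 := by
    have := h.hN
    omega
  have hm : 2 * (N / 2) = N := h.half_two
  rw [value_eq h.σo hN hζ χ hl hl']
  conv_lhs => rw [← hm]
  rw [sum_Ico_double _ (by have := h.hN; omega), hm]
  congr 1
  refine Finset.sum_congr rfl fun j _ => ?_
  have hj := j.2
  have hj' : (j : ℕ) + 1 ≤ N := by omega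
  rw [h.UU_sub hζ hχ hj', mul_add]
  congr 2
  have e : ((N - ((j : ℕ) + 1) : ℕ) : ℤ) = -(((j : ℕ) + 1 : ℕ) : ℤ) + N := by
    rw [Nat.cast_sub hj']
    ring
  rw [e, expo_add_N hζ hN]

theorem expo_sum_total (h : DihCtx P σ τ N) (hζ : IsPrimitiveRoot ζ N) {l : ℕ} (hl : 0 < l)
    (hl' : l < N) :
    expo ζ ((N / 2 : ℕ) : ℤ) l + ∑ j : Fin (N / 2 - 1),
        (expo ζ (((j : ℕ) + 1 : ℕ) : ℤ) l + expo ζ (-(((j : ℕ) + 1 : ℕ) : ℤ)) l) = -1 := by
  have hN : N ≠ 0 := by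
    have := h.hN
    omega
  have hm : 2 * (N / 2) = N := h.half_two
  rw [← sum_expo_Ico hN hζ hl hl']
  conv_rhs => rw [← hm]
  rw [sum_Ico_double (fun a => expo ζ (a : ℕ) l) (by have := h.hN; omega), hm]
  congr 1
  refine Finset.sum_congr rfl fun j _ => ?_
  have hj := j.2
  have hj' : (j : ℕ) + 1 ≤ N := by omega
  congr 1
  have e : ((N - ((j : ℕ) + 1) : ℕ) : ℤ) = -(((j : ℕ) + 1 : ℕ) : ℤ) + N := by
    rw [Nat.cast_sub hj']
    ring
  rw [e, expo_add_N hζ hN]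

/-- The non-vanishing on the central involution. -/
theorem DihCtx.value_ne_zero (h : DihCtx P σ τ N) (hM : IsPModular 2 M) {χ : IrrCharacter G}
    (hχ : χ ∈ principalBlock M G) : (χ : G → ℂ) (σ ^ (N / 2)) ≠ 0 := by
  intro h0
  set J := σ ^ (N / 2) with hJ
  have h1 : MemLocalIdeal M (centralChar (fun _ : G => (1 : ℂ)) J - centralChar (χ : G → ℂ) J) :=
    hχ J
  obtain ⟨a, b, ha, hb, hab⟩ := h1
  have hb0 : (b : ℂ) ≠ 0 := by
    intro h
    have : b = 0 := Subtype.ext h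
    exact hb (this ▸ M.zero_mem)
  set n := (centralizer ({J} : Set G)).index with hn
  have hab' : (a : ℂ) = (n : ℂ) * (b : ℂ) := by
    rw [div_eq_iff hb0] at hab
    rw [hab]
    simp [centralChar, h0, ← hn]
  have hab2 : a = (n : AlgInt) * b := by
    apply Subtype.ext
    rw [hab']
    simp
  have hodd : ¬ 2 ∣ n := by
    haveI : Fact (Nat.Prime 2) := ⟨Nat.prime_two⟩
    intro h2
    have hle : (P : Subgroup G) ≤ centralizer ({J} : Set G) := fun x hx =>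
      Subgroup.mem_centralizer_singleton_iff.mpr (h.J_comm hx).eq
    exact P.not_dvd_index (h2.trans (Subgroup.index_dvd_of_le hle))
  obtain ⟨k, hk⟩ := Nat.odd_iff.mpr (Nat.odd_iff.mp (Nat.not_even_iff_odd.mp
    (fun h => hodd h.two_dvd)))
  apply hb
  have hb2 : b = a - (2 : AlgInt) * ((k : AlgInt) * b) := by
    have hk' : n = 2 * k + 1 := hk
    rw [hab2, hk']
    push_cast
    ring
  rw [hb2]
  refine M.sub_mem ha (M.mul_mem_right _ ?_)
  have := hM.2.2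
  simpa using this

/-- The output of the analysis of the principal block. -/
structure DTable (M : Ideal AlgInt) (σ : G) (ζ : ℂ) (N : ℕ) [Fintype (Idx M G)]
    (δ s₂ s₃ : ℤ) (r₁ r₂ r₃ : Idx M G) (p : Fin (N / 2 - 1) → Idx M G) : Prop where
  hδ : δ = 1 ∨ δ = -1
  hs₂ : s₂ = 1 ∨ s₂ = -1
  hs₃ : s₃ = 1 ∨ s₃ = -1
  inj : Function.Injective p
  r₁i : (r₁.1 : G → ℂ) ≠ fun _ => 1
  r₂i : (r₂.1 : G → ℂ) ≠ fun _ => 1
  r₃i : (r₃.1 : G → ℂ) ≠ fun _ => 1
  r₁₂ : r₁ ≠ r₂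
  r₁₃ : r₁ ≠ r₃
  r₂₃ : r₂ ≠ r₃
  pne : ∀ a, ((p a).1 : G → ℂ) ≠ (fun _ => 1) ∧ p a ≠ r₁ ∧ p a ≠ r₂ ∧ p a ≠ r₃
  cover : ∀ r : Idx M G, (r.1 : G → ℂ) = (fun _ => 1) ∨ r = r₁ ∨ r = r₂ ∨ r = r₃ ∨ ∃ a, r = p a
  card : Fintype.card (Idx M G) = 4 + (N / 2 - 1)
  val₁ : ∀ l : ℕ, 0 < l → l < N → (r₁.1 : G → ℂ) (σ ^ l) = δ
  val₂ : ∀ l : ℕ, 0 < l → l < N → (r₂.1 : G → ℂ) (σ ^ l) = s₂ * (-1) ^ l
  val₃ : ∀ l : ℕ, 0 < l → l < N → (r₃.1 : G → ℂ) (σ ^ l) = s₃ * (-1) ^ l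
  valp : ∀ l : ℕ, 0 < l → l < N → ∀ j, ((p j).1 : G → ℂ) (σ ^ l) =
    δ * (ζ ^ (((j : ℕ) + 1) * l) + (ζ ^ (((j : ℕ) + 1) * l))⁻¹)
  odd₁ : ∀ ρ : G, ¬ 2 ∣ orderOf ρ → ∀ j,
    - 1 - (δ : ℂ) * (r₁.1 : G → ℂ) ρ + (δ : ℂ) * ((p j).1 : G → ℂ) ρ = 0
  odd₂ : ∀ ρ : G, ¬ 2 ∣ orderOf ρ →
    - 1 - (δ : ℂ) * (r₁.1 : G → ℂ) ρ + (s₂ : ℂ) * (r₂.1 : G → ℂ) ρ + (s₃ : ℂ) * (r₃.1 : G → ℂ) ρ = 0

/-- **The analysis of the principal block**. -/
theorem DihCtx.exists_table (h : DihCtx P σ τ N) (hM : IsPModular 2 M) (hζ : IsPrimitiveRoot ζ N)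
    [Fintype (Idx M G)] :
    ∃ (δ s₂ s₃ : ℤ) (r₁ r₂ r₃ : Idx M G) (p : Fin (N / 2 - 1) → Idx M G),
      DTable M σ ζ N δ s₂ s₃ r₁ r₂ r₃ p := by
  classical
  haveI := hM.2.1.isPrime
  have hN4 := h.hN
  have hN : N ≠ 0 := by omega
  have hz := hζ.ne_zero hN
  have hm : 2 * (N / 2) = N := h.half_two
  have hchar : ∀ i : Idx M G, IsCharacter G (i.1 : G → ℂ) := fun i =>
    isCharacter_of_isIrrCharacter i.1.2
  have hcl : ∀ i : Idx M G, IsClassFunction G (i.1 : G → ℂ) := fun i =>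
    isClassFunction_of_isIrrCharacter i.1.2
  choose k hk using fun (i : Idx M G) (a : ℤ) => exists_int_UU h.σo hN hζ (hchar i) a
  have hgram : ∀ a b : ℤ, ¬ (N : ℤ) ∣ a → ¬ (N : ℤ) ∣ b →
      ∑ i, k i a * k i b = 2 + (if (N : ℤ) ∣ b - a then 1 else 0) +
        (if (N : ℤ) ∣ a + b then 1 else 0) := by
    intro a b ha hb
    have h1 := h.gram₁ hM hζ a b ha hb
    simp only [hk, map_intCast] at h1
    have h2 : ((∑ i, k i a * k i b : ℤ) : ℂ) = ((2 + (if (N : ℤ) ∣ b - a then 1 else 0) +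
        (if (N : ℤ) ∣ a + b then 1 else 0) : ℤ) : ℂ) := by
      push_cast
      rw [h1]
    exact_mod_cast h2
  have hodd : ∀ (a : ℤ) (ρ : G), ¬ 2 ∣ orderOf ρ →
      ∑ i, (k i a : ℂ) * (i.1 : G → ℂ) ρ = 0 := by
    intro a ρ hρ
    have h1 := h.sum_UU_odd hM hζ a hρ
    simpa only [hk, map_intCast] using h1
  have hone : ∀ a : ℤ, ¬ (N : ℤ) ∣ a → k (idxOne M G) a = -1 := by
    intro a ha
    have h1 := hk (idxOne M G) a
    have h2 : UU σ ζ N ((idxOne M G).1 : G → ℂ) a = -1 := UU_one hN hζ ha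
    rw [h2] at h1
    have h3 : ((-1 : ℤ) : ℂ) = (k (idxOne M G) a : ℂ) := by
      push_cast
      exact h1
    exact_mod_cast h3.symm
  -- the indices
  have hA : ∀ j : Fin (N / 2 - 1), ¬ (N : ℤ) ∣ (((j : ℕ) + 1 : ℕ) : ℤ) := by
    intro j hd
    have hd' : N ∣ (j : ℕ) + 1 := by exact_mod_cast hd
    have := Nat.le_of_dvd (by omega) hd'
    have := j.2
    omega
  have hW : ¬ (N : ℤ) ∣ ((N / 2 : ℕ) : ℤ) := by
    intro hd
    have hd' : N ∣ N / 2 := by exact_mod_cast hd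
    have := Nat.le_of_dvd (by omega) hd'
    omega
  let V : Fin (N / 2 - 1) → Idx M G → ℤ := fun j i => k i (((j : ℕ) + 1 : ℕ) : ℤ)
  let W : Idx M G → ℤ := fun i => k i ((N / 2 : ℕ) : ℤ)
  let d : Idx M G → ℤ := fun i => (charDegree (i.1 : G → ℂ) : ℤ)
  have hdpos : ∀ i, 0 < d i := fun i => by
    have := charDegree_pos i.1.2
    simp only [d]
    exact_mod_cast this
  have hd0 : d (idxOne M G) = 1 := by
    simp only [d]
    have h1 := charDegree_natCast (hchar (idxOne M G))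
    have h2 : ((idxOne M G).1 : G → ℂ) 1 = 1 := rfl
    rw [h2] at h1
    exact_mod_cast h1
  have hoddA : Odd (Fintype.card (Fin (N / 2 - 1))) := by
    rw [Fintype.card_fin]
    obtain ⟨e, he⟩ := h.hNp
    have he2 : 2 ≤ e := by
      by_contra hlt
      have : e = 0 ∨ e = 1 := by omega
      rcases this with rfl | rfl <;> simp at he <;> omega
    obtain ⟨f, rfl⟩ : ∃ f, e = f + 2 := ⟨e - 2, by omega⟩
    have h1 : N / 2 = 2 * 2 ^ f := by
      rw [he, pow_add]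
      omega
    rw [h1]
    have h2 : 0 < 2 ^ f := by positivity
    exact ⟨2 ^ f - 1, by omega⟩
  have hvalue : ∀ (i : Idx M G) (l : ℕ), 0 < l → l < N → (i.1 : G → ℂ) (σ ^ l) =
      (W i : ℂ) * (-1) ^ l + ∑ j : Fin (N / 2 - 1), (V j i : ℂ) *
        (expo ζ (((j : ℕ) + 1 : ℕ) : ℤ) l + expo ζ (-(((j : ℕ) + 1 : ℕ) : ℤ)) l) := by
    intro i l hl hl'
    rw [row_value h hζ (hcl i) hl hl', expo_half hm hN hζ]
    simp only [hk, V, W]
  obtain ⟨δ, s₂, s₃, r₁, r₂, r₃, p, hR⟩ := classify (idxOne M G) hoddA V W d hdpos hd0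
    (fun a => hone _ (hA a)) (hone _ hW)
    (by
      intro a b
      have h1 := hgram _ _ (hA a) (hA b)
      have ha := a.2
      have hb := b.2
      have h2 : (N : ℤ) ∣ (((b : ℕ) + 1 : ℕ) : ℤ) - (((a : ℕ) + 1 : ℕ) : ℤ) ↔ a = b := by
        constructor
        · intro hd
          have h5 := Int.eq_zero_of_abs_lt_dvd hd (by
            rw [abs_lt]
            push_cast
            omega)
          apply Fin.ext
          push_cast at h5
          omega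
        · rintro rfl
          simp
      have h3 : ¬ (N : ℤ) ∣ (((a : ℕ) + 1 : ℕ) : ℤ) + (((b : ℕ) + 1 : ℕ) : ℤ) := by
        intro hd
        have hd' : N ∣ ((a : ℕ) + 1) + ((b : ℕ) + 1) := by exact_mod_cast hd
        have := Nat.le_of_dvd (by omega) hd'
        omega
      simp only [V]
      rw [h1, if_neg h3]
      simp only [h2]
      ring)
    (by
      intro a
      have h1 := hgram _ _ hW (hA a)
      have ha := a.2
      have h2 : ¬ (N : ℤ) ∣ (((a : ℕ) + 1 : ℕ) : ℤ) - ((N / 2 : ℕ) : ℤ) := by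
        intro hd
        have h5 := Int.eq_zero_of_abs_lt_dvd hd (by
          rw [abs_lt]
          push_cast
          omega)
        push_cast at h5
        omega
      have h3 : ¬ (N : ℤ) ∣ ((N / 2 : ℕ) : ℤ) + (((a : ℕ) + 1 : ℕ) : ℤ) := by
        intro hd
        have hd' : N ∣ (N / 2) + ((a : ℕ) + 1) := by exact_mod_cast hd
        have := Nat.le_of_dvd (by omega) hd'
        omega
      simp only [V, W]
      rw [h1, if_neg h2, if_neg h3]
      ring)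
    (by
      have h1 := hgram _ _ hW hW
      have h2 : (N : ℤ) ∣ ((N / 2 : ℕ) : ℤ) + ((N / 2 : ℕ) : ℤ) := by
        have : ((N / 2 : ℕ) : ℤ) + ((N / 2 : ℕ) : ℤ) = N := by
          have h9 : N / 2 + N / 2 = N := by omega
          exact_mod_cast h9
        rw [this]
      simp only [W]
      rw [h1, if_pos (by simp), if_pos h2]
      ring)
    (by
      intro a
      have h1 := hodd (((a : ℕ) + 1 : ℕ) : ℤ) 1 (by simp)
      have h2 : ((∑ r, d r * V a r : ℤ) : ℂ) = 0 := by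
        push_cast
        rw [← h1]
        refine Finset.sum_congr rfl fun i _ => ?_
        simp only [d, V]
        rw [mul_comm]
        congr 1
        have := charDegree_natCast (hchar i)
        rw [← this]
        simp
      exact_mod_cast h2)
    (by
      have h1 := hodd ((N / 2 : ℕ) : ℤ) 1 (by simp)
      have h2 : ((∑ r, d r * W r : ℤ) : ℂ) = 0 := by
        push_cast
        rw [← h1]
        refine Finset.sum_congr rfl fun i _ => ?_
        simp only [d, W]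
        rw [mul_comm]
        congr 1
        have := charDegree_natCast (hchar i)
        rw [← this]
        simp
      exact_mod_cast h2)
    (by
      intro r _
      by_contra hcon
      push Not at hcon
      obtain ⟨h1, h2⟩ := hcon
      apply h.value_ne_zero hM r.2
      rw [hvalue r (N / 2) (by omega) (by omega), h1]
      simp [h2])
  have hV0 : ∀ a, V a (idxOne M G) = -1 := fun a => hone _ (hA a)
  have hW0 : W (idxOne M G) = -1 := hone _ hW
  have hone' : ∀ r : Idx M G, (r.1 : G → ℂ) = (fun _ => 1) ↔ r = idxOne M G := by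
    intro r
    constructor
    · intro e
      exact Subtype.ext (Subtype.ext e)
    · rintro rfl
      rfl
  refine ⟨δ, s₂, s₃, r₁, r₂, r₃, p, ⟨hR.hδ, hR.hs₂, hR.hs₃, hR.inj, ?_, ?_, ?_, hR.r₁₂,
    hR.r₁₃, hR.r₂₃, ?_, ?_, ?_, ?_, ?_, ?_, ?_, ?_, ?_⟩⟩
  · exact fun e => hR.r₁i ((hone' _).mp e)
  · exact fun e => hR.r₂i ((hone' _).mp e)
  · exact fun e => hR.r₃i ((hone' _).mp e)
  · intro a
    obtain ⟨h1, h2, h3, h4⟩ := hR.pne a
    exact ⟨fun e => h1 ((hone' _).mp e), h2, h3, h4⟩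
  · intro r
    rcases hR.cover r with e | e
    · exact Or.inl ((hone' _).mpr e)
    · exact Or.inr e
  · rw [hR.card, Fintype.card_fin]
  · intro l hl hl'
    rw [hvalue r₁ l hl hl', hR.Wr₁]
    have h1 : ∀ j, (V j r₁ : ℂ) = -(δ : ℂ) := fun j => by
      rw [(hR.Vval j).1]
      push_cast
      rfl
    simp only [h1]
    rw [← Finset.mul_sum]
    have h2 := expo_sum_total h hζ hl hl'
    rw [expo_half hm hN hζ] at h2
    rw [Int.cast_neg]
    linear_combination (-(δ : ℂ)) * h2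
  · intro l hl hl'
    rw [hvalue r₂ l hl hl', hR.Wr₂]
    have h1 : ∀ j, (V j r₂ : ℂ) = 0 := fun j => by
      rw [(hR.Vval j).2.2.1]
      simp
    simp [h1]
  · intro l hl hl'
    rw [hvalue r₃ l hl hl', hR.Wr₃]
    have h1 : ∀ j, (V j r₃ : ℂ) = 0 := fun j => by
      rw [(hR.Vval j).2.2.2.1]
      simp
    simp [h1]
  · intro l hl hl' j
    rw [hvalue (p j) l hl hl', hR.Wp]
    have h1 : ∀ b, b ≠ j → (V b (p j) : ℂ) = 0 := fun b hb => by
      rw [(hR.Vval b).2.2.2.2 j hb.symm]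
      simp
    rw [Finset.sum_eq_single j (fun b _ hb => by rw [h1 b hb, zero_mul])
      (fun hj => absurd (Finset.mem_univ j) hj)]
    rw [(hR.Vval j).2.1]
    have e1 : expo ζ (((j : ℕ) + 1 : ℕ) : ℤ) l = ζ ^ (((j : ℕ) + 1) * l) := by
      simp only [expo]
      rw [zpow_natCast, ← pow_mul]
    have e2 : expo ζ (-(((j : ℕ) + 1 : ℕ) : ℤ)) l = (ζ ^ (((j : ℕ) + 1) * l))⁻¹ := by
      simp only [expo]
      rw [zpow_neg, zpow_natCast, inv_pow, ← pow_mul]
    rw [e1, e2]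
    simp
  · intro ρ hρ j
    have h1 := hodd (((j : ℕ) + 1 : ℕ) : ℤ) ρ hρ
    have h2 := hR.sumV hV0 j (fun r => (r.1 : G → ℂ) ρ)
    have h3 : ∑ r, ((V j r : ℤ) : ℂ) * (r.1 : G → ℂ) ρ = 0 := h1
    rw [h3] at h2
    have h4 : ((idxOne M G).1 : G → ℂ) ρ = 1 := rfl
    rw [h4] at h2
    linear_combination -h2
  · intro ρ hρ
    have h1 := hodd ((N / 2 : ℕ) : ℤ) ρ hρ
    have h2 := hR.sumW hW0 (hR.W_zero) (fun r => (r.1 : G → ℂ) ρ)
    have h3 : ∑ r, ((W r : ℤ) : ℂ) * (r.1 : G → ℂ) ρ = 0 := h1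
    rw [h3] at h2
    have h4 : ((idxOne M G).1 : G → ℂ) ρ = 1 := rfl
    rw [h4] at h2
    linear_combination -h2

end Cfsg.Agent.Lib.DihBlock
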